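import Cfsg.Agent.GH.NFour.End
import Cfsg.Agent.GH.L2QTwo.TwistInv

/-!
# `|S : T| = 2`, `x ^ s = x z`: contradiction from the frame

Step (5): `x ∈ S'` by transfer.  If `c ^ s` is not inner, `TwistD.not_mem_comm`.  Otherwise `D ^ s = D`; either an
element of `S - T` normalizes `⟨x, z, c⟩` (`Dat.false_of_norm`), or there is `f ∈ T` centralizing `D` with `f² = x`
(impossible, as `(f ^ s)² = x z`), or `|S : D| = 4` and `x ∉ D ≥ S'`.
-/

set_option autoImplicit false

open Subgroup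

namespace Cfsg.Agent.GH.NFour.Five

open Cfsg.Agent.GH.L2QTwo Cfsg.Agent.GH.L2QTwo.TwistD Cfsg.Agent.GH.NFour.End

variable {G A : Type*} [Group G] [Group A]
variable {x : G} {K T D : Subgroup G} {d : ℕ} {r c : G} {o1 : G → ℤˣ} {o2 : G → A}

/-- an element normalizing `D` normalizes `⟨r⟩` -/
theorem conj_r (F : Frame x K T D d r c o1 o2) (hd : 3 ≤ d) {s : G} (hD : ∀ e ∈ D, s * e * s⁻¹ ∈ D) :
    ∃ l : ℤ, Odd l ∧ s * r * s⁻¹ = r ^ l := by
  obtain ⟨l, hl⟩ := F.D_form _ (hD r F.r_mem)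
  have hl' : s * r * s⁻¹ = r ^ l := by
    rcases hl with h | h
    · exact h
    · exfalso
      have h1 : s * r ^ (2 : ℤ) * s⁻¹ = 1 := by
        have e2 : s * r ^ (2 : ℤ) * s⁻¹ = (s * r * s⁻¹) * (s * r * s⁻¹) := by
          rw [zpow_two]; group
        rw [e2, h, F.refl_sq]
      have h2 : r ^ (2 : ℤ) = 1 := by
        have : r ^ (2 : ℤ) = s⁻¹ * (s * r ^ (2 : ℤ) * s⁻¹) * s := by group
        rw [this, h1]; group
      rw [F.rk_one] at h2
      have h3 : (2 : ℤ) ^ 2 ∣ 2 ^ (d - 1) := pow_dvd_pow 2 (by omega)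
      have h4 := h3.trans h2
      norm_num at h4
  refine ⟨l, ?_, hl'⟩
  by_contra heven
  rw [Int.not_odd_iff_even] at heven
  obtain ⟨j, hj⟩ := heven
  have h5 : s * r ^ ((2 : ℤ) ^ (d - 2)) * s⁻¹ = 1 := by
    rw [cz hl', F.rk_one, hj]
    refine ⟨j, ?_⟩
    have : d - 1 = (d - 2) + 1 := by omega
    rw [this, pow_succ]; ring
  apply F.z_ne
  rw [F.zz]
  have : r ^ ((2 : ℤ) ^ (d - 2)) = s⁻¹ * (s * r ^ ((2 : ℤ) ^ (d - 2)) * s⁻¹) * s := by group
  rw [this, h5]; group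

/-- an element normalizing `D` maps `c` to a reflection -/
theorem conj_c (F : Frame x K T D d r c o1 o2) (hd : 3 ≤ d) {s : G} (hD : ∀ e ∈ D, s * e * s⁻¹ ∈ D) :
    ∃ k : ℤ, s * c * s⁻¹ = r ^ k * c := by
  obtain ⟨l, hodd, hl⟩ := conj_r F hd hD
  obtain ⟨k, hk⟩ := F.D_form _ (hD c F.c_mem)
  rcases hk with h | h
  · exfalso
    have hcop : IsCoprime l ((2 : ℤ) ^ (d - 1)) := by
      apply IsCoprime.pow_right
      obtain ⟨j, hj⟩ := hodd
      exact ⟨1, -j, by rw [hj]; ring⟩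
    obtain ⟨a, b, hab⟩ := hcop
    have h10 : s * r ^ (a * k) * s⁻¹ = r ^ k := by
      rw [cz hl]
      have : l * (a * k) = k + (2 : ℤ) ^ (d - 1) * (-(b * k)) := by
        linear_combination k * hab
      rw [this, zpow_add, (F.rk_one _).2 (Dvd.intro _ rfl), mul_one]
    rw [← h] at h10
    have h11 : r ^ (a * k) = c := by
      have := congrArg (fun g => s⁻¹ * g * s) h10
      simp only [mul_assoc, inv_mul_cancel_left, inv_mul_cancel, mul_one] at this
      exact this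
    exact F.c_not _ h11.symm
  · exact ⟨k, h⟩

theorem false_of_even [Finite G] {S : Sylow 2 G} {ρ w : G} (F : Frame x K T D d r c o1 o2)
    (N : Dat S T x (r ^ 2 ^ (d - 2)) c ρ w r)
    {s : G} (hs : s ∈ S) (sx : s * x * s⁻¹ = x * r ^ 2 ^ (d - 2)) {l k : ℤ}
    (hl : s * r * s⁻¹ = r ^ l) (hk : s * c * s⁻¹ = r ^ k * c) (he : Even k) : False := by
  obtain ⟨j, hj⟩ := he
  have hrS : r ∈ S := N.le N.rT
  refine N.false_of_norm (s := r ^ (-j) * s) ((S : Subgroup G).mul_mem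
    ((S : Subgroup G).zpow_mem hrS _) hs) ?_ (Or.inl ?_) ⟨l, ?_⟩
  · calc r ^ (-j) * s * x * (r ^ (-j) * s)⁻¹ = r ^ (-j) * (s * x * s⁻¹) * r ^ j := by group
      _ = r ^ (-j) * x * (r ^ 2 ^ (d - 2) * r ^ j) := by rw [sx]; group
      _ = x * r ^ (-j) * (r ^ 2 ^ (d - 2) * r ^ j) := by
          rw [(Commute.zpow_right (F.T_comm r F.r_T) (-j) : Commute x _).eq]
      _ = _ := by
          rw [F.zz]
          simp only [mul_assoc, ← zpow_add]
          congr 2
          ring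
  · calc r ^ (-j) * s * c * (r ^ (-j) * s)⁻¹ = r ^ (-j) * (s * c * s⁻¹) * r ^ j := by group
      _ = r ^ (-j) * (r ^ k * (c * r ^ j)) := by rw [hk]; group
      _ = c := by
          rw [F.c_rk]
          simp only [← mul_assoc, ← zpow_add]
          have : -j + (k + -j) = 0 := by rw [hj]; ring
          rw [this, zpow_zero, one_mul]
  · calc r ^ (-j) * s * r * (r ^ (-j) * s)⁻¹ = r ^ (-j) * (s * r * s⁻¹) * r ^ j := by group
      _ = r ^ l := by
          rw [hl, ← zpow_add, ← zpow_add]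
          congr 1
          ring

/-- `x ∈ S'` -/
theorem mem_comm [Finite G] {S : Sylow 2 G} {z b ρ w : G} (N : Dat S T x z b ρ w r)
    (hG : ∀ f : G →* Abelianization (S : Subgroup G), f x = 1) :
    x ∈ ⁅(S : Subgroup G), (S : Subgroup G)⁆ := by
  have h := N.map_eq_one (A := Abelianization (S : Subgroup G)) Abelianization.of hG
  have h1 : (⟨x, N.le N.mem⟩ : (S : Subgroup G)) ∈ commutator (S : Subgroup G) := by
    have h2 : (⟨x, N.le N.mem⟩ : (S : Subgroup G)) ∈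
        (Abelianization.of : (S : Subgroup G) →* Abelianization (S : Subgroup G)).ker := h
    rwa [Abelianization.ker_of] at h2
  have h3 := Subgroup.mem_map_of_mem (S : Subgroup G).subtype h1
  rw [Subgroup.map_subtype_commutator] at h3
  exact h3

/-- **Step (5).** -/
theorem false_of [Finite G] {S : Sylow 2 G} {ρ w : G} (F : Frame x K T D d r c o1 o2) (hd : 3 ≤ d)
    (mixed : ∀ y ∈ T, y * y = x → o1 y = 1 ∨ o2 y = 1)
    (fc : ∀ y ∈ T, o1 y = 1 → o2 y ≠ 1 → ∃ f ∈ T, o2 f ≠ 1 ∧ ∀ e ∈ D, f * e = e * f)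
    (nofield : ∀ y ∈ T, y * y = 1 → o2 y = 1)
    (N : Dat S T x (r ^ 2 ^ (d - 2)) c ρ w r)
    (hG : ∀ f : G →* Abelianization (S : Subgroup G), f x = 1)
    {s : G} (hs : s ∈ S) (sx : s * x * s⁻¹ = x * r ^ 2 ^ (d - 2)) : False := by
  -- `|S : T| = 2`
  have hx := mem_comm N hG
  have hTn : (T.subgroupOf (S : Subgroup G)).Normal := Subgroup.normal_of_index_eq_two N.idx
  have sT : ∀ u ∈ T, s * u * s⁻¹ ∈ T := by
    intro u hu
    have := hTn.conj_mem ⟨u, N.le hu⟩ (Subgroup.mem_subgroupOf.2 hu) ⟨s, hs⟩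
    exact Subgroup.mem_subgroupOf.1 this
  have ss : s * s ∈ T := by
    have := Subgroup.mul_self_mem_of_index_two (H := T.subgroupOf (S : Subgroup G)) N.idx ⟨s, hs⟩
    exact Subgroup.mem_subgroupOf.1 this
  have hsT : s ∉ T := by
    intro h
    have h1 : s * x * s⁻¹ = x := by rw [← F.T_comm s h, mul_inv_cancel_right]
    rw [h1] at sx
    exact F.z_ne (mul_eq_left.1 sx.symm)
  have hS : ∀ g ∈ (S : Subgroup G), g ∈ T ∨ s⁻¹ * g ∈ T := by
    intro g hg
    by_cases h : g ∈ T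
    · exact Or.inl h
    · right
      have h1 := (Subgroup.mul_mem_iff_of_index_two (H := T.subgroupOf (S : Subgroup G)) N.idx
        (a := ⟨s, hs⟩⁻¹) (b := ⟨g, hg⟩))
      rw [Subgroup.inv_mem_iff] at h1
      have h2 : (⟨s, hs⟩ : (S : Subgroup G)) ∉ T.subgroupOf (S : Subgroup G) :=
        fun h2 => hsT (Subgroup.mem_subgroupOf.1 h2)
      have h3 : (⟨g, hg⟩ : (S : Subgroup G)) ∉ T.subgroupOf (S : Subgroup G) :=
        fun h3 => h (Subgroup.mem_subgroupOf.1 h3)
      exact Subgroup.mem_subgroupOf.1 (h1.2 ⟨fun h4 => absurd h4 h2, fun h4 => absurd h4 h3⟩)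
  by_cases h1 : o1 (s * c * s⁻¹) = 1
  swap
  · exact TwistD.not_mem_comm F hd mixed sT ss sx h1 hS hx
  -- `D` is normal in `S`
  have zX : ∀ g : G, g * x * g⁻¹ ≠ r ^ 2 ^ (d - 2) := by
    intro g hg
    apply N.nconj g⁻¹
    rw [← hg]; group
  have sD := TwistInv.D_inv F hd nofield zX sT sx h1
  have sD' : ∀ e ∈ D, s⁻¹ * e * s ∈ D := by
    intro e he
    have e1 : s⁻¹ * e * s = (s * s)⁻¹ * (s * e * s⁻¹) * (s * s)⁻¹⁻¹ := by group
    rw [e1]
    exact F.D_norm (T.inv_mem ss) (sD e he)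
  obtain ⟨l, hl, hlr⟩ := conj_r F hd sD
  obtain ⟨k, hk⟩ := conj_c F hd sD
  rcases Int.even_or_odd k with he | ho
  · exact false_of_even F N hs sx hlr hk he
  by_cases hall : ∃ u ∈ T, o1 u ≠ 1
  · -- replace `s` by `u s`
    obtain ⟨u, hu, hu1⟩ := hall
    obtain ⟨m, hm⟩ := F.conj_c hd hu
    obtain ⟨l', hl', hlr'⟩ := F.conj_r hd hu
    have hmo : Odd m := by
      rw [← Int.not_even_iff_odd]
      intro he
      exact hu1 ((F.swap hd u hu m hm).2 he)
    refine false_of_even (s := u * s) (l := l' * l) (k := l' * k + m) F N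
      ((S : Subgroup G).mul_mem (N.le hu) hs) ?_ ?_ ?_ ((hl'.mul ho).add_odd hmo)
    · calc u * s * x * (u * s)⁻¹ = u * (s * x * s⁻¹) * u⁻¹ := by group
        _ = (u * x * u⁻¹) * (u * r ^ 2 ^ (d - 2) * u⁻¹) := by rw [sx]; group
        _ = _ := by rw [← F.T_comm u hu, mul_inv_cancel_right, N.z_cen u (N.le hu),
            mul_inv_cancel_right]
    · calc u * s * r * (u * s)⁻¹ = u * (s * r * s⁻¹) * u⁻¹ := by group
        _ = _ := by rw [hlr, cz hlr']
    · calc u * s * c * (u * s)⁻¹ = u * (s * c * s⁻¹) * u⁻¹ := by group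
        _ = (u * r ^ k * u⁻¹) * (u * c * u⁻¹) := by rw [hk]; group
        _ = _ := by rw [cz hlr', hm, ← mul_assoc, ← zpow_add]
  · push Not at hall
    by_cases hall2 : ∃ y ∈ T, o2 y ≠ 1
    · obtain ⟨y, hy, hy2⟩ := hall2
      obtain ⟨f, hf, hf2, hfD⟩ := fc y hy (hall y hy) hy2
      have hff : f * f = x := by
        rcases F.sq_mem f hf hfD with h | h
        · exact absurd (nofield f hf h) hf2
        · exact h
      have h2 : (s * f * s⁻¹) * (s * f * s⁻¹) = x * r ^ 2 ^ (d - 2) := by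
        rw [← sx, ← hff]; group
      rcases F.sq_mem (s * f * s⁻¹) (sT f hf) (by
        intro e he
        have h3 := hfD _ (sD' e he)
        calc s * f * s⁻¹ * e = s * (f * (s⁻¹ * e * s)) * s⁻¹ := by group
          _ = s * ((s⁻¹ * e * s) * f) * s⁻¹ := by rw [h3]
          _ = e * (s * f * s⁻¹) := by group) with h | h
      · rw [h2] at h
        exact F.xD_ne F.z_mem D.one_mem h
      · rw [h2] at h
        exact F.z_ne (mul_eq_left.1 h)
    · push Not at hall2
      -- `T = ⟨x⟩ × D`, `S' ≤ D`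
      have nT : ∀ u ∈ T, ∀ n ∈ D, u * n * u⁻¹ ∈ D := fun u hu n hn => F.D_norm hu hn
      have gen : ∀ g, (∀ n ∈ D, g * n * g⁻¹ ∈ D) → Cm D x g → ∀ u ∈ T, Cm D u g := by
        intro g hg hxg u hu
        obtain ⟨e, he, h | h⟩ := F.ker u hu (hall u hu) (hall2 u hu)
        · rw [h]; exact Cm.of_mem he hg
        · rw [h]; exact Cm.mul (nT x F.x_mem) hxg (Cm.of_mem he hg)
      have xs : Cm D x s := by
        apply Cm.symm
        unfold Cm
        rw [sx, F.x_inv]
        have e : x * r ^ 2 ^ (d - 2) * x = r ^ 2 ^ (d - 2) := by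
          rw [F.x_comm_D F.z_mem, mul_assoc, F.xx, mul_one]
        rw [e]
        exact F.z_mem
      have hTs : ∀ u ∈ T, Cm D u s := gen s sD xs
      have hTT : ∀ u' ∈ T, ∀ u ∈ T, Cm D u u' := fun u' hu' =>
        gen u' (nT u' hu') (Cm.of_comm (F.T_comm u' hu'))
      have hST : ∀ g, g ∈ T ∨ s⁻¹ * g ∈ T → ∀ u ∈ T, Cm D g u := by
        rintro g (hg | hg) u hu
        · exact hTT u hu g hg
        · have e : g = s * (s⁻¹ * g) := by group
          rw [e]
          exact Cm.mul sD (hTs u hu).symm (hTT u hu _ hg)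
      have hSs : ∀ g, g ∈ T ∨ s⁻¹ * g ∈ T → Cm D g s := by
        rintro g (hg | hg)
        · exact hTs g hg
        · have e : g = s * (s⁻¹ * g) := by group
          rw [e]
          exact Cm.mul sD (Cm.of_comm rfl) (hTs _ hg)
      have hall3 : ∀ g h, (g ∈ T ∨ s⁻¹ * g ∈ T) → (h ∈ T ∨ s⁻¹ * h ∈ T) → Cm D g h := by
        rintro g h hg (hh | hh)
        · exact hST g hg h hh
        · have e : h = s * (s⁻¹ * h) := by group
          rw [e]
          exact (Cm.mul sD (hSs g hg).symm (hST g hg _ hh).symm).symm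
      have hle : ⁅(S : Subgroup G), (S : Subgroup G)⁆ ≤ D := by
        rw [Subgroup.commutator_le]
        intro a ha b hb
        exact hall3 a b (hS a ha) (hS b hb)
      exact F.x_not (hle hx)

end Cfsg.Agent.GH.NFour.Five
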