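import Cfsg.Agent.GH.NFour.Four
import Cfsg.Agent.GH.NFour.Five
import Cfsg.Agent.GH.L2QTwo.MFBase

/-!
# GH-L2, `|Q| = 2`, `T < S`, no field involution in `T`, `|D| ≥ 8`, `T ≠ ⟨x⟩ × D₈`: contradiction

Assembly of `Four`, `Five` and of the case where no element of `T` is of `PGL`-type but `T` has an element inducing a
field automorphism (`false_of_field`).
-/

set_option autoImplicit false

open Subgroup

namespace Cfsg.Agent.GH.NFour.Main

open Cfsg.Agent.GH.L2QTwo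

variable {G A : Type*} [Group G] [Group A] {x : G} {K T D : Subgroup G} {d : ℕ} {r c : G}
  {o1 : G → ℤˣ} {o2 : G → A}

theorem o1_pow (F : Frame x K T D d r c o1 o2) {y : G} (hy : y ∈ T) (h : o1 y = 1) (n : ℕ) : o1 (y ^ n) = 1 := by
  induction n with
  | zero => rw [pow_zero]; exact F.o1_one
  | succ n ih => rw [pow_succ, F.o1_mul' (T.pow_mem hy n) hy, ih, h, mul_one]

/-- a power of `y` of order 2 modulo the kernel of `o2` -/
theorem exists_pow (F : Frame x K T D d r c o1 o2) {y : G} (hy : y ∈ T) (h2 : o2 y ≠ 1) :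
    ∃ n : ℕ, o2 (y ^ n) ≠ 1 ∧ o2 (y ^ n) * o2 (y ^ n) = 1 := by
  classical
  obtain ⟨k, hk⟩ := F.T_two ⟨y, hy⟩
  have hk' : y ^ 2 ^ k = 1 := congrArg Subtype.val hk
  have hex : ∃ k : ℕ, o2 (y ^ 2 ^ k) = 1 := ⟨k, by rw [hk']; exact F.o2_one⟩
  have h0 : Nat.find hex ≠ 0 := by
    intro h0
    have h1 := Nat.find_spec hex
    rw [h0, pow_zero, pow_one] at h1
    exact h2 h1
  obtain ⟨m, hm⟩ := Nat.exists_eq_succ_of_ne_zero h0
  refine ⟨2 ^ m, Nat.find_min hex (by omega), ?_⟩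
  rw [← F.o2_mul' (T.pow_mem hy _) (T.pow_mem hy _), ← pow_add, ← mul_two, ← pow_succ]
  have h1 := Nat.find_spec hex
  rw [hm] at h1
  exact h1

/-- the field part centralises `D` -/
theorem fc (F : Frame x K T D d r c o1 o2)
    (field_comm : ∀ y ∈ T, o1 y = 1 → o2 y ≠ 1 → o2 y * o2 y = 1 → ∃ b ∈ D, ∀ e ∈ D, b * y * e = e * (b * y)) :
    ∀ y ∈ T, o1 y = 1 → o2 y ≠ 1 → ∃ f ∈ T, o2 f ≠ 1 ∧ ∀ e ∈ D, f * e = e * f := by
  intro y hy h1 h2
  obtain ⟨n, hn, hn2⟩ := exists_pow F hy h2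
  obtain ⟨b, hb, hbc⟩ := field_comm _ (T.pow_mem hy n) (o1_pow F hy h1 n) hn hn2
  refine ⟨b * y ^ n, T.mul_mem (F.D_le hb) (T.pow_mem hy n), ?_, hbc⟩
  rw [F.o2_mul' (F.D_le hb) (T.pow_mem hy n), F.o2_D hb, one_mul]
  exact hn

/-- an element of `S - T` normalising `T` -/
theorem exists_s [Finite G] {S : Sylow 2 G} (hTS : T ≤ S) (hne : T ≠ S) :
    ∃ s ∈ S, s ∉ T ∧ ∀ t, t ∈ T ↔ s * t * s⁻¹ ∈ T := by
  have : Group.IsNilpotent ↥(S : Subgroup G) := S.isPGroup'.isNilpotent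
  have hnc : NormalizerCondition ↥(S : Subgroup G) := Group.normalizerCondition_of_isNilpotent
  have hlt : T.subgroupOf (S : Subgroup G) < ⊤ := by
    rw [lt_top_iff_ne_top]
    intro h
    rw [subgroupOf_eq_top] at h
    exact hne (le_antisymm hTS h)
  obtain ⟨s, hs, hs2⟩ := SetLike.exists_of_lt (hnc _ hlt)
  refine ⟨s, s.2, hs2, fun t => ?_⟩
  rw [mem_normalizer_iff] at hs
  constructor
  · intro ht
    exact (hs ⟨t, hTS ht⟩).1 ht
  · intro ht
    have htS : t ∈ (S : Subgroup G) := by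
      have h1 : t = (s : G)⁻¹ * (s * t * (s : G)⁻¹) * s := by group
      rw [h1]
      exact mul_mem (mul_mem (inv_mem s.2) (hTS ht)) s.2
    exact (hs ⟨t, htS⟩).2 ht

/-- `x^s = xz` for `s ∈ N_S(T) - T` -/
theorem conj_x [Finite G] (F : Frame x K T D d r c o1 o2) (hd : 3 ≤ d) (nf : ∀ y ∈ T, y * y = 1 → o2 y = 1)
    {S : Sylow 2 G} (hTS : T ≤ S) {s : G} (hs : s ∈ S) (hsT : s ∉ T) (hn : ∀ t, t ∈ T ↔ s * t * s⁻¹ ∈ T) :
    s * x * s⁻¹ = x * r ^ 2 ^ (d - 2) ∧ s * r ^ 2 ^ (d - 2) = r ^ 2 ^ (d - 2) * s := by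
  have hz : s * r ^ 2 ^ (d - 2) = r ^ 2 ^ (d - 2) * s :=
    (F.good_of_ge hd).zN s (mem_normalizer_iff.2 hn)
  refine ⟨?_, hz⟩
  have hsx := (hn x).1 F.x_mem
  have hsq : (s * x * s⁻¹) * (s * x * s⁻¹) = 1 := by
    calc (s * x * s⁻¹) * (s * x * s⁻¹) = s * (x * x) * s⁻¹ := by group
      _ = 1 := by rw [F.xx]; group
  have hcr : (s * x * s⁻¹) * r = r * (s * x * s⁻¹) := by
    have h3 : s⁻¹ * r * s ∈ T := by
      rw [hn]
      have : s * (s⁻¹ * r * s) * s⁻¹ = r := by group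
      rw [this]
      exact F.r_T
    have h4 := F.T_comm _ h3
    calc (s * x * s⁻¹) * r = s * (x * (s⁻¹ * r * s)) * s⁻¹ := by group
      _ = s * ((s⁻¹ * r * s) * x) * s⁻¹ := by rw [h4]
      _ = r * (s * x * s⁻¹) := by group
  rcases Four.inv_r F hd nf hsx hsq hcr with h1 | h1 | h1 | h1
  · exfalso
    apply F.x_ne
    calc x = s⁻¹ * (s * x * s⁻¹) * s := by group
      _ = 1 := by rw [h1]; group
  · exfalso
    have h2 : x = r ^ 2 ^ (d - 2) := by
      calc x = s⁻¹ * (s * x * s⁻¹) * s := by group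
        _ = s⁻¹ * (r ^ 2 ^ (d - 2) * s) := by rw [h1]; group
        _ = s⁻¹ * (s * r ^ 2 ^ (d - 2)) := by rw [hz]
        _ = r ^ 2 ^ (d - 2) := by group
    exact F.x_not (h2 ▸ F.z_mem)
  · exfalso
    apply hsT
    have hxs : x * s = s * x := by
      calc x * s = (s * x * s⁻¹) * s := by rw [h1]
        _ = s * x := by group
    have hP : IsPGroup 2 ↥((S : Subgroup G) ⊓ centralizer {x}) := S.isPGroup'.to_le inf_le_left
    have hle : T ≤ (S : Subgroup G) ⊓ centralizer {x} := by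
      intro t ht
      exact mem_inf.2 ⟨hTS ht, mem_centralizer_singleton_iff.2 (F.T_comm t ht).symm⟩
    have hcard : Nat.card ↥((S : Subgroup G) ⊓ centralizer {x}) ≤ Nat.card T := by
      refine F.card_le (IsConj.refl x) hP ?_
      intro p hp
      exact mem_centralizer_singleton_iff.1 (mem_inf.1 hp).2
    have heq : T = (S : Subgroup G) ⊓ centralizer {x} := Subgroup.eq_of_le_of_card_ge hle hcard
    rw [heq]
    exact mem_inf.2 ⟨hs, mem_centralizer_singleton_iff.2 hxs.symm⟩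
  · exact h1

/-- `o1 = 1` on `T`, `o2 ≠ 1` on `T`: contradiction -/
theorem false_of_field [Finite G] (F : Frame x K T D d r c o1 o2) (hd : 3 ≤ d)
    (nf : ∀ y ∈ T, y * y = 1 → o2 y = 1)
    (hfc : ∀ y ∈ T, o1 y = 1 → o2 y ≠ 1 → ∃ f ∈ T, o2 f ≠ 1 ∧ ∀ e ∈ D, f * e = e * f)
    (h1 : ∀ t ∈ T, o1 t = 1) {y : G} (hy : y ∈ T) (hy2 : o2 y ≠ 1) {S : Sylow 2 G} (hTS : T ≤ S)
    (hne : T ≠ S) : False := by
  obtain ⟨s, hs, hsT, hn⟩ := exists_s hTS hne
  obtain ⟨hsx, hsz⟩ := conj_x F hd nf hTS hs hsT hn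
  obtain ⟨f, hf, hf2, hfD⟩ := hfc y hy (h1 y hy) hy2
  have hff : f * f = x := by
    rcases F.sq_mem f hf hfD with h | h
    · exact absurd (nf f hf h) hf2
    · exact h
  have hfx : f * x = x * f := by rw [← hff, mul_assoc]
  set z := r ^ 2 ^ (d - 2) with hzdef
  have hzD : z ∈ D := F.z_mem
  have hz1 : z ≠ 1 := F.z_ne
  have hxz : x * z ∉ D := fun h => F.x_not (by
    have := D.mul_mem h (D.inv_mem hzD)
    rwa [mul_inv_cancel_right] at this)
  have hg : s * f * s⁻¹ ∈ T := (hn f).1 hf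
  have hgg : s * f * s⁻¹ * (s * f * s⁻¹) = x * z := by
    calc s * f * s⁻¹ * (s * f * s⁻¹) = s * (f * f) * s⁻¹ := by group
      _ = x * z := by rw [hff, hsx]
  -- `D ∪ xD`
  have hsqD : ∀ t ∈ T, o2 t = 1 → t * t ∈ D := by
    intro t ht ht2
    obtain ⟨e, he, h | h⟩ := F.ker t ht (h1 t ht) ht2
    · rw [h]; exact D.mul_mem he he
    · rw [h]
      have : x * e * (x * e) = e * e := by
        calc x * e * (x * e) = x * (e * x) * e := by group
          _ = x * (x * e) * e := by rw [F.x_comm_D he]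
          _ = (x * x) * (e * e) := by group
          _ = e * e := by rw [F.xx, one_mul]
      rw [this]
      exact D.mul_mem he he
  have hg2 : o2 (s * f * s⁻¹) ≠ 1 := by
    intro h
    apply hxz
    rw [← hgg]
    exact hsqD _ hg h
  have hgo : o2 (s * f * s⁻¹) * o2 (s * f * s⁻¹) = 1 := by
    rw [← F.o2_mul' hg hg, hgg, F.o2_mul' F.x_mem (F.D_le hzD), F.o2_x, F.o2_D hzD, one_mul]
  have hfo : o2 f * o2 f = 1 := by rw [← F.o2_mul' hf hf, hff, F.o2_x]
  have hgf := F.A_inv _ _ hgo hg2 hfo hf2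
  have hw : s * f * s⁻¹ * f⁻¹ ∈ T := T.mul_mem hg (T.inv_mem hf)
  have hw2 : o2 (s * f * s⁻¹ * f⁻¹) = 1 := by
    rw [F.o2_mul' hg (T.inv_mem hf), F.o2_inv hf, hgf, mul_inv_cancel]
  -- `g = e f` or `x e f`, `e² = z`
  obtain ⟨e, he, hwe⟩ : ∃ e ∈ D, s * f * s⁻¹ = e * f ∨ s * f * s⁻¹ = x * e * f := by
    obtain ⟨e, he, h | h⟩ := F.ker _ hw (h1 _ hw) hw2
    · exact ⟨e, he, Or.inl (by rw [← h]; group)⟩
    · exact ⟨e, he, Or.inr (by rw [← h]; group)⟩
  have hfe := hfD e he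
  have hxe := F.x_comm_D he
  have hee : e * e = z := by
    have h2 : e * e * x = z * x := by
      have h3 : s * f * s⁻¹ * (s * f * s⁻¹) = e * e * (f * f) := by
        rcases hwe with h | h
        · rw [h]
          calc e * f * (e * f) = e * (f * e) * f := by group
            _ = e * e * (f * f) := by rw [hfe]; group
        · rw [h]
          calc x * e * f * (x * e * f) = x * e * (f * x) * e * f := by group
            _ = x * e * (x * f) * e * f := by rw [hfx]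
            _ = x * (e * x) * (f * e) * f := by group
            _ = x * (x * e) * (e * f) * f := by rw [← hxe, hfe]
            _ = (x * x) * (e * e * (f * f)) := by group
            _ = e * e * (f * f) := by rw [F.xx, one_mul]
      rw [hff] at h3
      rw [← h3, hgg, F.x_comm_D hzD]
    exact mul_right_cancel h2
  -- `e = r^k`
  obtain ⟨k, hk⟩ : ∃ k : ℤ, e = r ^ k := by
    obtain ⟨k, h | h⟩ := F.D_form e he
    · exact ⟨k, h⟩
    · exfalso
      apply hz1
      rw [← hee, h, F.refl_sq]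
  -- `u = s c s⁻¹`
  have hu : s * c * s⁻¹ ∈ T := (hn c).1 F.c_T
  have huu : s * c * s⁻¹ * (s * c * s⁻¹) = 1 := by
    calc s * c * s⁻¹ * (s * c * s⁻¹) = s * (c * c) * s⁻¹ := by group
      _ = 1 := by rw [F.cc]; group
  have hgu : s * f * s⁻¹ * (s * c * s⁻¹) = s * c * s⁻¹ * (s * f * s⁻¹) := by
    calc s * f * s⁻¹ * (s * c * s⁻¹) = s * (f * c) * s⁻¹ := by group
      _ = s * (c * f) * s⁻¹ := by rw [hfD c F.c_mem]
      _ = s * c * s⁻¹ * (s * f * s⁻¹) := by group
  obtain ⟨v, hv, hvu⟩ := F.ker _ hu (h1 _ hu) (nf _ hu huu)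
  have hxu : x * (s * c * s⁻¹) = s * c * s⁻¹ * x := F.T_comm _ hu
  have hfv := hfD v hv
  have hfu : f * (s * c * s⁻¹) = s * c * s⁻¹ * f := by
    rcases hvu with h | h
    · rw [h, hfv]
    · rw [h]
      calc f * (x * v) = (f * x) * v := by group
        _ = x * (f * v) := by rw [hfx]; group
        _ = x * v * f := by rw [hfv]; group
  -- `e` commutes with `u`
  have heu : e * (s * c * s⁻¹) = s * c * s⁻¹ * e := by
    have h2 : ∀ a b : G, a * b = b * a → a⁻¹ * b = b * a⁻¹ := by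
      intro a b h
      rw [inv_mul_eq_iff_eq_mul, ← mul_assoc, h, mul_inv_cancel_right]
    have hfi := h2 _ _ hfu
    have hxi := h2 _ _ hxu
    rcases hwe with h | h
    · have h3 : e = s * f * s⁻¹ * f⁻¹ := by rw [h]; group
      rw [h3, mul_assoc, hfi, ← mul_assoc, hgu, mul_assoc]
    · have h3 : e = x⁻¹ * (s * f * s⁻¹) * f⁻¹ := by rw [h]; group
      rw [h3]
      calc x⁻¹ * (s * f * s⁻¹) * f⁻¹ * (s * c * s⁻¹) = x⁻¹ * (s * f * s⁻¹) * (f⁻¹ * (s * c * s⁻¹)) := by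
            simp only [mul_assoc]
        _ = x⁻¹ * (s * f * s⁻¹) * (s * c * s⁻¹ * f⁻¹) := by rw [hfi]
        _ = x⁻¹ * (s * f * s⁻¹ * (s * c * s⁻¹)) * f⁻¹ := by simp only [mul_assoc]
        _ = x⁻¹ * (s * c * s⁻¹ * (s * f * s⁻¹)) * f⁻¹ := by rw [hgu]
        _ = (x⁻¹ * (s * c * s⁻¹)) * (s * f * s⁻¹) * f⁻¹ := by simp only [mul_assoc]
        _ = (s * c * s⁻¹ * x⁻¹) * (s * f * s⁻¹) * f⁻¹ := by rw [hxi]
        _ = s * c * s⁻¹ * (x⁻¹ * (s * f * s⁻¹) * f⁻¹) := by simp only [mul_assoc]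
  have hev : e * v = v * e := by
    rcases hvu with h | h
    · rwa [h] at heu
    · rw [h] at heu
      have h3 : x * (e * v) = x * (v * e) := by
        calc x * (e * v) = (x * e) * v := by group
          _ = e * (x * v) := by rw [hxe]; group
          _ = x * v * e := heu
          _ = x * (v * e) := by group
      exact mul_left_cancel h3
  have hvv : v * v = 1 := by
    rcases hvu with h | h
    · rwa [h] at huu
    · rw [h] at huu
      calc v * v = (x * x) * (v * v) := by rw [F.xx, one_mul]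
        _ = x * (x * v) * v := by group
        _ = x * (v * x) * v := by rw [F.x_comm_D hv]
        _ = x * v * (x * v) := by group
        _ = 1 := huu
  rcases F.inv_form hv hvv with h | h | ⟨j, h⟩
  · -- `v = 1`
    subst h
    rcases hvu with h | h
    · apply F.c_ne
      calc c = s⁻¹ * (s * c * s⁻¹) * s := by group
        _ = 1 := by rw [h]; group
    · rw [mul_one] at h
      -- `s c s⁻¹ = x`, `s x s⁻¹ = x z`, so `c z' = ...`: `s (x c) s⁻¹ = z`
      have h3 : s * (x * c) * s⁻¹ = z := by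
        calc s * (x * c) * s⁻¹ = (s * x * s⁻¹) * (s * c * s⁻¹) := by group
          _ = x * z * x := by rw [hsx, h]
          _ = (x * x) * z := by rw [mul_assoc, ← F.x_comm_D hzD, ← mul_assoc]
          _ = z := by rw [F.xx, one_mul]
      have h4 : x * c = z := by
        calc x * c = s⁻¹ * (s * (x * c) * s⁻¹) * s := by group
          _ = s⁻¹ * (z * s) := by rw [h3]; group
          _ = s⁻¹ * (s * z) := by rw [hsz]
          _ = z := by group
      apply F.x_not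
      have h5 : x = z * c⁻¹ := by rw [← h4]; group
      rw [h5]
      exact D.mul_mem hzD (D.inv_mem F.c_mem)
  · -- `v = z`
    have h' : v = z := h
    rw [h'] at hvu
    rcases hvu with h | h
    · have h4 : c = z := by
        calc c = s⁻¹ * (s * c * s⁻¹) * s := by group
          _ = s⁻¹ * z * s := by rw [h]
          _ = s⁻¹ * (z * s) := by rw [mul_assoc]
          _ = s⁻¹ * (s * z) := by rw [hsz]
          _ = z := by group
      have h5 := F.c_not ((2 : ℤ) ^ (d - 2))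
      rw [← F.zz] at h5
      exact h5 h4
    · apply F.x_not
      have h4 : s * c * s⁻¹ = s * x * s⁻¹ := by rw [h, hsx]
      have h5 : c = x := by
        calc c = s⁻¹ * (s * c * s⁻¹) * s := by group
          _ = s⁻¹ * (s * x * s⁻¹) * s := by rw [h4]
          _ = x := by group
      rw [← h5]
      exact F.c_mem
  · -- a reflection
    rw [h, hk] at hev
    apply hz1
    have h3 : r ^ k = r ^ (-k) := by
      have h4 : r ^ k * (r ^ j * c) = r ^ (k + j) * c := by rw [← mul_assoc, ← zpow_add]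
      have h5 : r ^ j * c * r ^ k = r ^ (j - k) * c := by
        rw [mul_assoc, F.c_rk, ← mul_assoc, ← zpow_add, sub_eq_add_neg]
      rw [h4, h5] at hev
      have h6 := mul_right_cancel hev
      calc r ^ k = r ^ (k + j) * (r ^ j)⁻¹ := by rw [← zpow_neg, ← zpow_add]; congr 1; ring
        _ = r ^ (j - k) * (r ^ j)⁻¹ := by rw [h6]
        _ = r ^ (-k) := by rw [← zpow_neg, ← zpow_add]; congr 1; ring
    calc z = e * e := hee.symm
      _ = r ^ k * r ^ k := by rw [hk]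
      _ = r ^ k * r ^ (-k) := by rw [← h3]
      _ = 1 := by rw [← zpow_add, add_neg_cancel, zpow_zero]

/-- **(Q2.3)**: `T < S`, `|D| ≥ 8`, `T` has no field involution, `T ≠ ⟨x⟩ × D₈`: contradiction. -/
theorem main [Finite G] {S : Sylow 2 G} (F : Frame x K T D d r c o1 o2) (hd : 3 ≤ d)
    (mixed : ∀ y ∈ T, y * y = x → o1 y = 1 ∨ o2 y = 1)
    (field_comm : ∀ y ∈ T, o1 y = 1 → o2 y ≠ 1 → o2 y * o2 y = 1 → ∃ b ∈ D, ∀ e ∈ D, b * y * e = e * (b * y))
    (hρ : ∃ ρ, x * ρ = ρ * x ∧ ρ * r ^ 2 ^ (d - 2) * ρ⁻¹ = c ∧ ρ * c * ρ⁻¹ = r ^ 2 ^ (d - 2) * c)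
    (nf : ∀ y ∈ T, y * y = 1 → o2 y = 1) (hcase : 4 ≤ d ∨ ∃ t ∈ T, o1 t ≠ 1 ∨ o2 t ≠ 1)
    (hTS : T ≤ S) (hne : T ≠ S) (hG : commutator G = ⊤) : False := by
  have hfc := fc F field_comm
  by_cases h : 4 ≤ d ∨ ∃ t ∈ T, o1 t ≠ 1
  · obtain ⟨ρ, ρx, ρz, ρc⟩ := hρ
    have N := Four.mkDat F hd nf h hTS hne (fun f => by
      have h1 : commutator G ≤ f.ker := Abelianization.commutator_subset_ker f
      rw [hG] at h1
      exact h1 (mem_top x)) ρx.symm ρz ρc
    obtain ⟨s, hs, hsT⟩ : ∃ s ∈ S, s ∉ T := by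
      obtain ⟨s, hs, hsT, -⟩ := exists_s hTS hne
      exact ⟨s, hs, hsT⟩
    exact Five.false_of F hd mixed hfc nf N (fun f => by
      have h1 : commutator G ≤ f.ker := Abelianization.commutator_subset_ker f
      rw [hG] at h1
      exact h1 (mem_top x)) hs (Four.conj_x F hd nf N hs hsT)
  · push Not at h
    obtain ⟨t, ht, ht1⟩ := hcase.resolve_left (by omega)
    exact false_of_field F hd nf hfc h.2 ht (ht1.resolve_left (fun h1 => h1 (h.2 t ht))) hTS hne

end Cfsg.Agent.GH.NFour.Main
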