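import Cfsg.Agent.GH.NFour.Ext

/-!
# `|S : T| = 2`: the end

Data `Dat S T x z b ρ w r`: `Index.Hyp S T x`, `|S : T| = 2`, `z` the only involution of `Z(S)`, `b ∈ T` an
involution, `ρ ∈ C(x)`, `z ↦ b ↦ z b`, `w ∈ T` maps `b` to `z b`; `T` normalizes `⟨r⟩ ∋ z` and the
involutions of `C_T(r)` are `z`, `x`, `x z`; `x` is not conjugate to `z`.
* `Dat.false_of_norm`: no `s ∈ S` maps `x` to `x z`, `b` to `b` or `z b` and normalizes `⟨r⟩`.
* `Dat.map_eq_one`: `φ x = 1` for every homomorphism from `S` to an abelian group `A` such that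
  `f x = 1` for all `f : G →* A`.
-/

set_option autoImplicit false

open Subgroup
open scoped commutatorElement

namespace Cfsg.Agent.GH.NFour.End

open Cfsg.Agent.GH.NFour.Index Cfsg.Agent.GH.NFour.Ext Cfsg.Agent.GH.NFour.Key

variable {G : Type*} [Group G]

/-- The data. -/
structure Dat (S : Sylow 2 G) (T : Subgroup G) (x z b ρ w r : G) : Prop extends Hyp S T x where
  idx : T.relIndex (S : Subgroup G) = 2
  zT : z ∈ T
  bT : b ∈ T
  wT : w ∈ T
  rT : r ∈ T
  zz : z * z = 1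
  z_ne : z ≠ 1
  bb : b * b = 1
  b_ne : b ≠ 1
  b_ne_z : b ≠ z
  z_cen : ∀ s ∈ S, s * z = z * s
  /-- `z` is the only involution of `Z(S)` -/
  z_uniq : ∀ c ∈ T, c ≠ 1 → c * c = 1 → (∀ s ∈ S, s * c = c * s) → c = z
  ρx : ρ * x = x * ρ
  ρz : ρ * z * ρ⁻¹ = b
  ρb : ρ * b * ρ⁻¹ = z * b
  wb : w * b * w⁻¹ = z * b
  z_pow : ∃ k : ℤ, z = r ^ k
  norm_r : ∀ t ∈ T, ∃ k : ℤ, t * r * t⁻¹ = r ^ k
  /-- the involutions of `C_T(r)` -/
  inv_r : ∀ t ∈ T, t * t = 1 → t * r = r * t → t = 1 ∨ t = z ∨ t = x ∨ t = x * z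
  nconj : ∀ g : G, g * z * g⁻¹ ≠ x

variable {S : Sylow 2 G} {T : Subgroup G} {x z b ρ w r : G}

/-- **no element of `S` maps `x` to `x z` and normalizes `⟨x, z, b⟩` and `⟨r⟩`** -/
theorem Dat.false_of_norm [Finite G] (h : Dat S T x z b ρ w r) {s : G} (hs : s ∈ S)
    (hsx : s * x * s⁻¹ = x * z) (hsb : s * b * s⁻¹ = b ∨ s * b * s⁻¹ = z * b)
    (hsr : ∃ k : ℤ, s * r * s⁻¹ = r ^ k) : False := by
  have hle := h.le
  have hsT : s ∉ T := by
    intro h1
    have h2 := h.comm s h1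
    rw [← h2, mul_inv_cancel_right] at hsx
    have : x * 1 = x * z := by rw [mul_one]; exact hsx
    exact h.z_ne (mul_left_cancel this).symm
  have hmul : ∀ a b : G, a ∈ S → b ∈ S → (a * b ∈ T ↔ (a ∈ T ↔ b ∈ T)) := by
    intro a b ha hb
    exact Subgroup.mul_mem_iff_of_index_two (H := T.subgroupOf (S : Subgroup G)) h.idx (a := ⟨a, ha⟩)
      (b := ⟨b, hb⟩)
  have hnorm : ∀ a ∈ (S : Subgroup G), ∃ k : ℤ, a * r * a⁻¹ = r ^ k := by
    intro a ha
    by_cases haT : a ∈ T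
    · exact h.norm_r a haT
    · have h1 : a * s⁻¹ ∈ T := by
        rw [hmul _ _ ha ((S : Subgroup G).inv_mem hs), inv_mem_iff]
        exact iff_of_false haT hsT
      obtain ⟨k, hk⟩ := hsr
      obtain ⟨l, hl⟩ := h.norm_r _ h1
      refine ⟨l * k, ?_⟩
      calc a * r * a⁻¹ = (a * s⁻¹) * (s * r * s⁻¹) * (a * s⁻¹)⁻¹ := by group
        _ = ((a * s⁻¹) * r * (a * s⁻¹)⁻¹) ^ k := by rw [hk, conj_zpow]
        _ = r ^ (l * k) := by rw [hl, zpow_mul]
  refine key S h.xx h.zz h.z_ne h.bb h.b_ne h.b_ne_z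
    (h.z_cen b (hle h.bT)).symm (h.z_cen x (hle h.mem)) (h.comm b h.bT) h.ρx h.ρz h.ρb (hle h.wT)
    (h.comm w h.wT).symm (h.z_cen w (hle h.wT)) h.wb hs hsx (h.z_cen s hs) hsb ?_ h.nconj
  intro g hg hgg
  exact h.inv_r g (commutator_le_of_relIndex h.idx hg) hgg (commutator_cen hnorm g hg)

/-- **`x` dies in every abelian quotient of `S`** -/
theorem Dat.map_eq_one [Finite G] (h : Dat S T x z b ρ w r) {A : Type*} [CommGroup A]
    (φ : (S : Subgroup G) →* A) (hG : ∀ f : G →* A, f x = 1) :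
    φ ⟨x, h.le h.mem⟩ = 1 := by
  by_contra hφ
  obtain ⟨g, hyS, hyT, c, hcT, hc1, hcc, hcen, hconj⟩ := exists_ext h.toHyp h.idx φ hφ hG
  have hcz := h.z_uniq c hcT hc1 hcc hcen
  subst hcz
  set y := g⁻¹ * x * g with hy
  -- the action of `y` on `S`
  have hact : ∀ s ∈ S, y * s * y⁻¹ = s ∨ y * s * y⁻¹ = c * s := by
    intro s hs
    rcases hconj s hs with h1 | h1
    · left
      have h2 : s * y = y * s := by
        calc s * y = (s * y * s⁻¹) * s := by group
          _ = y * s := by rw [h1]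
      rw [← h2, mul_inv_cancel_right]
    · right
      have h2 : s * y = c * y * s := by
        calc s * y = (s * y * s⁻¹) * s := by group
          _ = c * y * s := by rw [h1]
      have h3 : y * s = c * (s * y) := by
        rw [h2, ← mul_assoc, ← mul_assoc, hcc, one_mul]
      rw [h3]; group
  refine h.false_of_norm hyS ?_ (hact b (h.le h.bT)) ?_
  · rcases hact x (h.le h.mem) with h1 | h1
    · exfalso
      apply hyT
      refine mem_T h.toHyp hyS ?_
      calc x * y = (y * x * y⁻¹) * y := by rw [h1]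
        _ = y * x := by group
    · rw [h1]
      exact (hcen x (h.le h.mem)).symm
  · obtain ⟨k, hk⟩ := h.z_pow
    rcases hact r (h.le h.rT) with h1 | h1
    · exact ⟨1, by rw [h1, zpow_one]⟩
    · exact ⟨k + 1, by rw [h1, hk, zpow_add, zpow_one]⟩

end Cfsg.Agent.GH.NFour.End
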