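import Mathlib

/-!
# A four-group with a 3-element fuses into the commutator subgroup of a Sylow 2-subgroup

`key`: `S` a Sylow 2-subgroup, `V = {1, z, b, z b}` a four-group centralized by the involution `x`,
`ρ ∈ C(x)` maps `z` to `b` and `b` to `z b`, `s ∈ S` normalizes `⟨x⟩ V`, centralizes `z` and maps `x` to
`x z`, `w ∈ S` centralizes `x`, `z` and maps `b` to `z b`.  Then `V` is conjugate to a subgroup of `⁅S, S⁆`.
So the involutions of `⁅S, S⁆` are not all in `{z, x, x z}` if `x` is not conjugate to `z`.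
-/

set_option autoImplicit false

open Subgroup
open scoped commutatorElement

namespace Cfsg.Agent.GH.NFour.Key

variable {G : Type*} [Group G]

/-- the elements centralizing `z`, `b` and mapping `x` into `x {1, z, b, z b}` -/
def HH (x z b : G) (hzz : z * z = 1) (hbb : b * b = 1) (hzb : z * b = b * z) : Subgroup G where
  carrier := {g | g * z = z * g ∧ g * b = b * g ∧
    (g * x * g⁻¹ = x ∨ g * x * g⁻¹ = x * z ∨ g * x * g⁻¹ = x * b ∨ g * x * g⁻¹ = x * (z * b))}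
  one_mem' := by simp
  mul_mem' := by
    rintro g h ⟨hg1, hg2, hg3⟩ ⟨hh1, hh2, hh3⟩
    refine ⟨by rw [mul_assoc, hh1, ← mul_assoc, hg1, mul_assoc],
      by rw [mul_assoc, hh2, ← mul_assoc, hg2, mul_assoc], ?_⟩
    have gz : g * z * g⁻¹ = z := by rw [hg1, mul_inv_cancel_right]
    have gb : g * b * g⁻¹ = b := by rw [hg2, mul_inv_cancel_right]
    have bz : b * z = z * b := hzb.symm
    have e0 : g * h * x * (g * h)⁻¹ = g * (h * x * h⁻¹) * g⁻¹ := by group
    have e1 : g * (x * z) * g⁻¹ = (g * x * g⁻¹) * z := by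
      calc g * (x * z) * g⁻¹ = (g * x * g⁻¹) * (g * z * g⁻¹) := by group
        _ = _ := by rw [gz]
    have e2 : g * (x * b) * g⁻¹ = (g * x * g⁻¹) * b := by
      calc g * (x * b) * g⁻¹ = (g * x * g⁻¹) * (g * b * g⁻¹) := by group
        _ = _ := by rw [gb]
    have e3 : g * (x * (z * b)) * g⁻¹ = (g * x * g⁻¹) * (z * b) := by
      calc g * (x * (z * b)) * g⁻¹ = (g * x * g⁻¹) * ((g * z * g⁻¹) * (g * b * g⁻¹)) := by group
        _ = _ := by rw [gz, gb]
    have m1 : z * (z * b) = b := by rw [← mul_assoc, hzz, one_mul]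
    have m2 : b * (z * b) = z := by rw [← mul_assoc, bz, mul_assoc, hbb, mul_one]
    have m3 : z * b * z = b := by rw [mul_assoc, bz, m1]
    have m4 : z * b * b = z := by rw [mul_assoc, hbb, mul_one]
    have m5 : z * b * (z * b) = 1 := by rw [← mul_assoc, m3, hbb]
    rw [e0]
    rcases hh3 with h1 | h1 | h1 | h1 <;> rw [h1]
    · exact hg3
    · rw [e1]
      rcases hg3 with h2 | h2 | h2 | h2 <;> rw [h2]
      · exact Or.inr (Or.inl rfl)
      · left; rw [mul_assoc, hzz, mul_one]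
      · right; right; right; rw [mul_assoc, bz]
      · right; right; left; rw [mul_assoc, m3]
    · rw [e2]
      rcases hg3 with h2 | h2 | h2 | h2 <;> rw [h2]
      · exact Or.inr (Or.inr (Or.inl rfl))
      · right; right; right; rw [mul_assoc]
      · left; rw [mul_assoc, hbb, mul_one]
      · right; left; rw [mul_assoc, m4]
    · rw [e3]
      rcases hg3 with h2 | h2 | h2 | h2 <;> rw [h2]
      · exact Or.inr (Or.inr (Or.inr rfl))
      · right; right; left; rw [mul_assoc, m1]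
      · right; left; rw [mul_assoc, m2]
      · left; rw [mul_assoc, m5, mul_one]
  inv_mem' := by
    rintro g ⟨hg1, hg2, hg3⟩
    have gz : g⁻¹ * z = z * g⁻¹ := by
      have h : Commute g z := hg1
      exact h.inv_left
    have gb : g⁻¹ * b = b * g⁻¹ := by
      have h : Commute g b := hg2
      exact h.inv_left
    refine ⟨gz, gb, ?_⟩
    have key : ∀ v : G, g⁻¹ * v = v * g⁻¹ → v * v = 1 → g * x * g⁻¹ = x * v →
        g⁻¹ * x * g⁻¹⁻¹ = x * v := by
      intro v hv hvv h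
      rw [inv_inv]
      have h1 : x = (g⁻¹ * x * g) * (g⁻¹ * v * g) := by
        calc x = g⁻¹ * (g * x * g⁻¹) * g := by group
          _ = g⁻¹ * (x * v) * g := by rw [h]
          _ = _ := by group
      have h2 : g⁻¹ * v * g = v := by rw [hv, inv_mul_cancel_right]
      rw [h2] at h1
      calc g⁻¹ * x * g = ((g⁻¹ * x * g) * v) * v := by rw [mul_assoc _ v v, hvv, mul_one]
        _ = x * v := by rw [← h1]
    rcases hg3 with h | h | h | h
    · left
      have := key 1 (by simp) (by simp) (by rw [h, mul_one])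
      rwa [mul_one] at this
    · right; left; exact key z gz hzz h
    · right; right; left; exact key b gb hbb h
    · right; right; right
      refine key (z * b) ?_ ?_ h
      · rw [← mul_assoc, gz, mul_assoc, gb, mul_assoc]
      · calc z * b * (z * b) = z * (b * z) * b := by group
          _ = z * (z * b) * b := by rw [hzb]
          _ = (z * z) * (b * b) := by group
          _ = 1 := by rw [hzz, hbb, one_mul]

/-- A 2-element `h` of `H` has a conjugate in any Sylow 2-subgroup of `H`. -/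
theorem exists_conj {H : Subgroup G} [Finite G] (P : Sylow 2 H) {h : G} (hh : h ∈ H)
    (h2 : IsPGroup 2 (zpowers h)) : ∃ k ∈ H, ∃ hk : k * h * k⁻¹ ∈ H, (⟨k * h * k⁻¹, hk⟩ : H) ∈ P := by
  have hp : IsPGroup 2 (zpowers (⟨h, hh⟩ : H)) := by
    intro a
    obtain ⟨a, ha⟩ := a
    obtain ⟨m, rfl⟩ := mem_zpowers_iff.1 ha
    obtain ⟨n, hn⟩ := h2 ⟨h ^ m, zpow_mem (mem_zpowers h) m⟩
    refine ⟨n, ?_⟩
    have h1 : (h ^ m) ^ 2 ^ n = 1 := congrArg Subtype.val hn
    exact Subtype.ext (Subtype.ext h1)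
  obtain ⟨Q, hQ⟩ := hp.exists_le_sylow
  obtain ⟨k, hk⟩ := MulAction.exists_smul_eq H Q P
  refine ⟨k, k.2, H.mul_mem (H.mul_mem k.2 hh) (H.inv_mem k.2), ?_⟩
  have h3 : (⟨h, hh⟩ : H) ∈ Q := hQ (mem_zpowers _)
  rw [← hk]
  exact ⟨⟨h, hh⟩, h3, rfl⟩

/-- **The four-group fuses into `⁅S, S⁆`.** -/
theorem exists_conj_commutator [Finite G] (S : Sylow 2 G) {x z b ρ s w : G} (hxx : x * x = 1)
    (hzz : z * z = 1) (hbb : b * b = 1) (hzb : z * b = b * z) (hxz : x * z = z * x)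
    (hxb : x * b = b * x) (hρx : ρ * x = x * ρ) (hρz : ρ * z * ρ⁻¹ = b) (hρb : ρ * b * ρ⁻¹ = z * b)
    (hwS : w ∈ S) (hwx : w * x = x * w) (hwz : w * z = z * w) (hwb : w * b * w⁻¹ = z * b)
    (hsS : s ∈ S) (hsx : s * x * s⁻¹ = x * z) (hsz : s * z = z * s)
    (hsb : s * b * s⁻¹ = b ∨ s * b * s⁻¹ = z * b) :
    ∃ g : G, g * z * g⁻¹ ∈ ⁅(S : Subgroup G), (S : Subgroup G)⁆ ∧
      g * b * g⁻¹ ∈ ⁅(S : Subgroup G), (S : Subgroup G)⁆ := by
  -- `s'` centralizes `b`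
  obtain ⟨s', hs'S, hs'x, hs'z, hs'b⟩ : ∃ s' ∈ S, s' * x * s'⁻¹ = x * z ∧ s' * z = z * s' ∧
      s' * b = b * s' := by
    rcases hsb with h | h
    · refine ⟨s, hsS, hsx, hsz, ?_⟩
      calc s * b = s * b * s⁻¹ * s := by group
        _ = b * s := by rw [h]
    · refine ⟨w * s, (S : Subgroup G).mul_mem hwS hsS, ?_, ?_, ?_⟩
      · calc w * s * x * (w * s)⁻¹ = w * (s * x * s⁻¹) * w⁻¹ := by group
          _ = w * (x * z) * w⁻¹ := by rw [hsx]
          _ = (w * x) * z * w⁻¹ := by group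
          _ = x * (w * z) * w⁻¹ := by rw [hwx]; group
          _ = x * z := by rw [hwz]; group
      · rw [mul_assoc, hsz, ← mul_assoc, hwz, mul_assoc]
      · have h1 : w * s * b * (w * s)⁻¹ = b := by
          calc w * s * b * (w * s)⁻¹ = w * (s * b * s⁻¹) * w⁻¹ := by group
            _ = w * (z * b) * w⁻¹ := by rw [h]
            _ = (w * z) * b * w⁻¹ := by group
            _ = z * (w * b * w⁻¹) := by rw [hwz]; group
            _ = (z * z) * b := by rw [hwb]; group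
            _ = b := by rw [hzz, one_mul]
        calc w * s * b = (w * s * b * (w * s)⁻¹) * (w * s) := by group
          _ = b * (w * s) := by rw [h1]
  set H := HH x z b hzz hbb hzb with hH
  have hxH : x ∈ H := ⟨hxz, hxb, Or.inl (by group)⟩
  have hsH : s' ∈ H := ⟨hs'z, hs'b, Or.inr (Or.inl hs'x)⟩
  have hcomm_conj : ∀ {a v : G}, a * v = v * a → a * v * a⁻¹ = v := by
    intro a v h; rw [h, mul_inv_cancel_right]
  have hρi : ρ⁻¹ * x * ρ = x := by
    calc ρ⁻¹ * x * ρ = ρ⁻¹ * (x * ρ) := by group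
      _ = ρ⁻¹ * (ρ * x) := by rw [hρx]
      _ = x := by group
  have hρib : ρ⁻¹ * b * ρ = z := by rw [← hρz]; group
  have hρiz : ρ⁻¹ * z * ρ = z * b := by
    -- `ρ⁻¹ (z b) ρ = b`
    have h1 : ρ⁻¹ * (z * b) * ρ = b := by rw [← hρb]; group
    calc ρ⁻¹ * z * ρ = (ρ⁻¹ * (z * b) * ρ) * (ρ⁻¹ * b * ρ) := by
          have : (ρ⁻¹ * (z * b) * ρ) * (ρ⁻¹ * b * ρ) = ρ⁻¹ * (z * (b * b)) * ρ := by group
          rw [this, hbb, mul_one]
      _ = b * z := by rw [h1, hρib]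
      _ = z * b := hzb.symm
  have hσH : ρ * s' * ρ⁻¹ ∈ H := by
    refine ⟨?_, ?_, Or.inr (Or.inr (Or.inl ?_))⟩
    · -- commutes with `z`
      have h1 : s' * (ρ⁻¹ * z * ρ) = (ρ⁻¹ * z * ρ) * s' := by
        rw [hρiz, ← mul_assoc, hs'z, mul_assoc, hs'b, mul_assoc]
      calc ρ * s' * ρ⁻¹ * z = ρ * (s' * (ρ⁻¹ * z * ρ)) * ρ⁻¹ := by group
        _ = ρ * ((ρ⁻¹ * z * ρ) * s') * ρ⁻¹ := by rw [h1]
        _ = z * (ρ * s' * ρ⁻¹) := by group
    · have h1 : s' * (ρ⁻¹ * b * ρ) = (ρ⁻¹ * b * ρ) * s' := by rw [hρib, hs'z]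
      calc ρ * s' * ρ⁻¹ * b = ρ * (s' * (ρ⁻¹ * b * ρ)) * ρ⁻¹ := by group
        _ = ρ * ((ρ⁻¹ * b * ρ) * s') * ρ⁻¹ := by rw [h1]
        _ = b * (ρ * s' * ρ⁻¹) := by group
    · calc ρ * s' * ρ⁻¹ * x * (ρ * s' * ρ⁻¹)⁻¹ = ρ * (s' * (ρ⁻¹ * x * ρ) * s'⁻¹) * ρ⁻¹ := by group
        _ = ρ * (x * z) * ρ⁻¹ := by rw [hρi, hs'x]
        _ = (ρ * x) * z * ρ⁻¹ := by group
        _ = x * (ρ * z * ρ⁻¹) := by rw [hρx]; group
        _ = x * b := by rw [hρz]
  have hs2 : IsPGroup 2 (zpowers s') := S.2.to_le (by rw [zpowers_le]; exact hs'S)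
  have hσ2 : IsPGroup 2 (zpowers (ρ * s' * ρ⁻¹)) := by
    intro a
    obtain ⟨a, ha⟩ := a
    obtain ⟨m, rfl⟩ := mem_zpowers_iff.1 ha
    obtain ⟨n, hn⟩ := hs2 ⟨s' ^ m, zpow_mem (mem_zpowers s') m⟩
    refine ⟨n, ?_⟩
    have h1 : (s' ^ m) ^ 2 ^ n = 1 := congrArg Subtype.val hn
    refine Subtype.ext ?_
    show ((ρ * s' * ρ⁻¹) ^ m) ^ 2 ^ n = 1
    rw [conj_zpow, conj_pow, h1]
    group
  -- a Sylow 2-subgroup `P` of `H` containing `x`
  have hx2 : IsPGroup 2 (zpowers (⟨x, hxH⟩ : H)) := by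
    intro a
    obtain ⟨a, ha⟩ := a
    obtain ⟨m, rfl⟩ := mem_zpowers_iff.1 ha
    refine ⟨1, Subtype.ext (Subtype.ext ?_)⟩
    show (x ^ m) ^ 2 ^ 1 = 1
    rw [pow_one, pow_two, ← zpow_add, ← two_mul, zpow_mul, zpow_two, hxx, one_zpow]
  obtain ⟨P, hP⟩ := hx2.exists_le_sylow
  have hxP : (⟨x, hxH⟩ : H) ∈ P := hP (mem_zpowers _)
  obtain ⟨k₁, hk₁, hk₁', h1P⟩ := exists_conj P hsH hs2
  obtain ⟨k₂, hk₂, hk₂', h2P⟩ := exists_conj P hσH hσ2
  -- `δ` is invariant under conjugation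
  have inv : ∀ {h k v : G}, h ∈ H → k ∈ H → v = z ∨ v = b → h * x * h⁻¹ = x * v →
      (k * h * k⁻¹) * x * (k * h * k⁻¹)⁻¹ = x * v := by
    intro h k v hh hk hv hhx
    have com : ∀ {a u : G}, a ∈ H → (u = z ∨ u = b ∨ u = z * b) → a * u * a⁻¹ = u := by
      rintro a u ha (rfl | rfl | rfl)
      · exact hcomm_conj ha.1
      · exact hcomm_conj ha.2.1
      · calc a * (z * b) * a⁻¹ = (a * z * a⁻¹) * (a * b * a⁻¹) := by group
          _ = z * b := by rw [hcomm_conj ha.1, hcomm_conj ha.2.1]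
    have hkv : k * v * k⁻¹ = v := com hk (by rcases hv with h | h <;> simp [h])
    -- write `k⁻¹ x k = x u`
    have hki := H.inv_mem hk
    obtain ⟨u, hu, hku⟩ : ∃ u, (u = 1 ∨ u = z ∨ u = b ∨ u = z * b) ∧ k⁻¹ * x * k⁻¹⁻¹ = x * u := by
      rcases hki.2.2 with h1 | h1 | h1 | h1
      · exact ⟨1, Or.inl rfl, by rw [h1, mul_one]⟩
      · exact ⟨z, Or.inr (Or.inl rfl), h1⟩
      · exact ⟨b, Or.inr (Or.inr (Or.inl rfl)), h1⟩
      · exact ⟨z * b, Or.inr (Or.inr (Or.inr rfl)), h1⟩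
    rw [inv_inv] at hku
    have hcu : ∀ {a : G}, a ∈ H → a * u * a⁻¹ = u := by
      intro a ha
      rcases hu with rfl | h
      · group
      · exact com ha h
    have hkx : k * (x * u) * k⁻¹ = x := by rw [← hku]; group
    have huv : u * v = v * u := by
      have hzz' : z * b = b * z := hzb
      rcases hv with rfl | rfl <;> rcases hu with rfl | rfl | rfl | rfl
      · rw [one_mul, mul_one]
      · rfl
      · exact hzz'.symm
      · rw [mul_assoc, ← hzz']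
      · rw [one_mul, mul_one]
      · exact hzz'
      · rfl
      · rw [← mul_assoc, ← hzz']
    calc (k * h * k⁻¹) * x * (k * h * k⁻¹)⁻¹ = k * (h * (k⁻¹ * x * k) * h⁻¹) * k⁻¹ := by group
      _ = k * (h * (x * u) * h⁻¹) * k⁻¹ := by rw [hku]
      _ = k * ((h * x * h⁻¹) * (h * u * h⁻¹)) * k⁻¹ := by group
      _ = k * (x * v * u) * k⁻¹ := by rw [hhx, hcu hh]
      _ = k * (x * u * v) * k⁻¹ := by rw [mul_assoc x v u, ← huv, ← mul_assoc x u v]
      _ = (k * (x * u) * k⁻¹) * (k * v * k⁻¹) := by group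
      _ = x * v := by rw [hkx, hkv]
  set p₁ := k₁ * s' * k₁⁻¹ with hp₁
  set p₂ := k₂ * (ρ * s' * ρ⁻¹) * k₂⁻¹ with hp₂
  have hp₁x : p₁ * x * p₁⁻¹ = x * z := inv hsH hk₁ (Or.inl rfl) hs'x
  have hp₂x : p₂ * x * p₂⁻¹ = x * b := by
    refine inv hσH hk₂ (Or.inr rfl) ?_
    calc ρ * s' * ρ⁻¹ * x * (ρ * s' * ρ⁻¹)⁻¹ = ρ * (s' * (ρ⁻¹ * x * ρ) * s'⁻¹) * ρ⁻¹ := by group
        _ = ρ * (x * z) * ρ⁻¹ := by rw [hρi, hs'x]
        _ = (ρ * x) * z * ρ⁻¹ := by group
        _ = x * (ρ * z * ρ⁻¹) := by rw [hρx]; group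
        _ = x * b := by rw [hρz]
  -- conjugate `P` into `S`
  have hP2 : IsPGroup 2 ((P : Subgroup H).map H.subtype) := P.2.map _
  obtain ⟨Q, hQ⟩ := hP2.exists_le_sylow
  obtain ⟨g, hg⟩ := MulAction.exists_smul_eq G Q S
  have hmem : ∀ a : H, a ∈ P → g * a * g⁻¹ ∈ S := by
    intro a ha
    rw [← hg]
    exact ⟨a, hQ ⟨a, ha, rfl⟩, rfl⟩
  have hxi : x⁻¹ = x := inv_eq_of_mul_eq_one_right hxx
  refine ⟨g, ?_, ?_⟩
  · have h1 : g * z * g⁻¹ = ⁅g * x * g⁻¹, g * p₁ * g⁻¹⁆ := by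
      rw [commutatorElement_def]
      calc g * z * g⁻¹ = g * (x * (x * z)) * g⁻¹ := by rw [← mul_assoc x x z, hxx, one_mul]
        _ = g * (x * (p₁ * x * p₁⁻¹)) * g⁻¹ := by rw [hp₁x]
        _ = g * (x * (p₁ * x⁻¹ * p₁⁻¹)) * g⁻¹ := by rw [hxi]
        _ = _ := by group
    rw [h1]
    exact commutator_mem_commutator (hmem _ hxP) (hmem _ h1P)
  · have h1 : g * b * g⁻¹ = ⁅g * x * g⁻¹, g * p₂ * g⁻¹⁆ := by
      rw [commutatorElement_def]
      calc g * b * g⁻¹ = g * (x * (x * b)) * g⁻¹ := by rw [← mul_assoc x x b, hxx, one_mul]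
        _ = g * (x * (p₂ * x * p₂⁻¹)) * g⁻¹ := by rw [hp₂x]
        _ = g * (x * (p₂ * x⁻¹ * p₂⁻¹)) * g⁻¹ := by rw [hxi]
        _ = _ := by group
    rw [h1]
    exact commutator_mem_commutator (hmem _ hxP) (hmem _ h2P)

/-- **KEY.** -/
theorem key [Finite G] (S : Sylow 2 G) {x z b ρ s w : G} (hxx : x * x = 1)
    (hzz : z * z = 1) (hz1 : z ≠ 1) (hbb : b * b = 1) (hb1 : b ≠ 1) (hbz : b ≠ z)
    (hzb : z * b = b * z) (hxz : x * z = z * x)
    (hxb : x * b = b * x) (hρx : ρ * x = x * ρ) (hρz : ρ * z * ρ⁻¹ = b) (hρb : ρ * b * ρ⁻¹ = z * b)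
    (hwS : w ∈ S) (hwx : w * x = x * w) (hwz : w * z = z * w) (hwb : w * b * w⁻¹ = z * b)
    (hsS : s ∈ S) (hsx : s * x * s⁻¹ = x * z) (hsz : s * z = z * s)
    (hsb : s * b * s⁻¹ = b ∨ s * b * s⁻¹ = z * b)
    (hS : ∀ g ∈ ⁅(S : Subgroup G), (S : Subgroup G)⁆, g * g = 1 → g = 1 ∨ g = z ∨ g = x ∨ g = x * z)
    (hne : ∀ g : G, g * z * g⁻¹ ≠ x) : False := by
  obtain ⟨g, hgz, hgb⟩ := exists_conj_commutator S hxx hzz hbb hzb hxz hxb hρx hρz hρb hwS hwx hwz hwb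
    hsS hsx hsz hsb
  have hgzb : g * (z * b) * g⁻¹ ∈ ⁅(S : Subgroup G), (S : Subgroup G)⁆ := by
    have : g * (z * b) * g⁻¹ = (g * z * g⁻¹) * (g * b * g⁻¹) := by group
    rw [this]
    exact mul_mem hgz hgb
  have hne' : ∀ g : G, g * b * g⁻¹ ≠ x := by
    intro g h
    apply hne (g * ρ)
    rw [← h, ← hρz]; group
  have hne'' : ∀ g : G, g * (z * b) * g⁻¹ ≠ x := by
    intro g h
    apply hne' (g * ρ)
    rw [← h, ← hρb]; group
  have sq : ∀ a : G, a * a = 1 → (g * a * g⁻¹) * (g * a * g⁻¹) = 1 := by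
    intro a ha
    calc (g * a * g⁻¹) * (g * a * g⁻¹) = g * (a * a) * g⁻¹ := by group
      _ = 1 := by rw [ha]; group
  have ne1 : ∀ a : G, a ≠ 1 → g * a * g⁻¹ ≠ 1 := by
    intro a ha h
    apply ha
    have : a = g⁻¹ * (g * a * g⁻¹) * g := by group
    rw [this, h]; group
  have hzb2 : z * b * (z * b) = 1 := by
    calc z * b * (z * b) = z * (b * z) * b := by group
      _ = z * (z * b) * b := by rw [hzb]
      _ = (z * z) * (b * b) := by group
      _ = 1 := by rw [hzz, hbb, one_mul]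
  have hzb1 : z * b ≠ 1 := by
    intro h
    apply hbz
    have : b = z * (z * b) := by rw [← mul_assoc, hzz, one_mul]
    rw [this, h, mul_one]
  have h1 := (hS _ hgz (sq z hzz)).resolve_left (ne1 z hz1)
  have h2 := (hS _ hgb (sq b hbb)).resolve_left (ne1 b hb1)
  have h3 := (hS _ hgzb (sq _ hzb2)).resolve_left (ne1 _ hzb1)
  have inj : ∀ {a c : G}, g * a * g⁻¹ = g * c * g⁻¹ → a = c := by
    intro a c h
    exact mul_left_cancel (mul_right_cancel h)
  have hzzb : z ≠ z * b := by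
    intro h
    apply hb1
    have : z * 1 = z * b := by rw [mul_one]; exact h
    exact (mul_left_cancel this).symm
  have hbzb : b ≠ z * b := by
    intro h
    apply hz1
    have : 1 * b = z * b := by rw [one_mul]; exact h
    exact (mul_right_cancel this).symm
  rcases h1 with h1 | h1 | h1
  · rcases h2 with h2 | h2 | h2
    · exact hbz (inj (h2.trans h1.symm))
    · exact hne' g h2
    · rcases h3 with h3 | h3 | h3
      · exact hzzb (inj (h1.trans h3.symm))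
      · exact hne'' g h3
      · exact hbzb (inj (h2.trans h3.symm))
  · exact hne g h1
  · rcases h2 with h2 | h2 | h2
    · rcases h3 with h3 | h3 | h3
      · exact hbzb (inj (h2.trans h3.symm))
      · exact hne'' g h3
      · exact hzzb (inj (h1.trans h3.symm))
    · exact hne' g h2
    · exact hbz (inj (h2.trans h1.symm))

/-- `⁅S, S⁆` centralizes `r` if every element of `S` maps `r` to a power of `r`. -/
theorem commutator_cen {S : Subgroup G} {r : G} (h : ∀ s ∈ S, ∃ k : ℤ, s * r * s⁻¹ = r ^ k) :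
    ∀ g ∈ ⁅S, S⁆, g * r = r * g := by
  have hle : ⁅S, S⁆ ≤ centralizer {r} := by
    rw [commutator_le]
    intro a ha b hb
    rw [mem_centralizer_singleton_iff]
    obtain ⟨k, hk⟩ := h a ha
    obtain ⟨l, hl⟩ := h b hb
    have e1 : a * b * r * (a * b)⁻¹ = r ^ (k * l) := by
      calc a * b * r * (a * b)⁻¹ = a * (b * r * b⁻¹) * a⁻¹ := by group
        _ = (a * r * a⁻¹) ^ l := by rw [hl, conj_zpow]
        _ = r ^ (k * l) := by rw [hk, zpow_mul]
    have e2 : b * a * r * (b * a)⁻¹ = r ^ (k * l) := by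
      calc b * a * r * (b * a)⁻¹ = b * (a * r * a⁻¹) * b⁻¹ := by group
        _ = (b * r * b⁻¹) ^ k := by rw [hk, conj_zpow]
        _ = r ^ (k * l) := by rw [hl, ← zpow_mul, mul_comm]
    have e3 : (b * a)⁻¹ * r ^ (k * l) * (b * a) = r := by rw [← e2]; group
    have e4 : ⁅a, b⁆ * r * ⁅a, b⁆⁻¹ = r := by
      -- `⁅a, b⁆ = (a b) (b a)⁻¹`
      have e5 : ⁅a, b⁆ = (a * b) * (b * a)⁻¹ := by rw [commutatorElement_def]; group
      rw [e5]
      have e6 : (b * a)⁻¹ * r * (b * a) = (a * b)⁻¹ * r * (a * b) := by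
        -- both are `m`-th "roots": use that conjugation by `a b` and `b a` agree on `⟨r⟩`
        have hinj : ∀ m : ℤ, (a * b) * r ^ m * (a * b)⁻¹ = (b * a) * r ^ m * (b * a)⁻¹ := by
          intro m
          rw [← conj_zpow, ← conj_zpow, e1, e2]
        obtain ⟨k', hk'⟩ := h (a * b)⁻¹ (by
          obtain ha' := S.mul_mem ha hb
          exact S.inv_mem ha')
        rw [inv_inv] at hk'
        have h1 : (a * b) * r ^ k' * (a * b)⁻¹ = r := by rw [← hk']; group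
        have h2 : (b * a) * r ^ k' * (b * a)⁻¹ = r := by rw [← hinj, h1]
        rw [hk']
        calc (b * a)⁻¹ * r * (b * a) = (b * a)⁻¹ * ((b * a) * r ^ k' * (b * a)⁻¹) * (b * a) := by rw [h2]
          _ = r ^ k' := by group
      calc (a * b) * (b * a)⁻¹ * r * ((a * b) * (b * a)⁻¹)⁻¹ =
          (a * b) * ((b * a)⁻¹ * r * (b * a)) * (a * b)⁻¹ := by group
        _ = r := by rw [e6]; group
    calc ⁅a, b⁆ * r = (⁅a, b⁆ * r * ⁅a, b⁆⁻¹) * ⁅a, b⁆ := by group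
      _ = r * ⁅a, b⁆ := by rw [e4]
  intro g hg
  exact mem_centralizer_singleton_iff.1 (hle hg)

/-- `⁅S, S⁆ ≤ T` if `|S : T| = 2`. -/
theorem commutator_le_of_relIndex {S T : Subgroup G} (h : T.relIndex S = 2) :
    ⁅S, S⁆ ≤ T := by
  rw [commutator_le]
  intro a ha b hb
  have hT : (T.subgroupOf S).index = 2 := h
  have hm : ∀ u v : S, (u * v ∈ T.subgroupOf S ↔ (u ∈ T.subgroupOf S ↔ v ∈ T.subgroupOf S)) :=
    fun u v => Subgroup.mul_mem_iff_of_index_two hT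
  have h1 : (⁅(⟨a, ha⟩ : S), ⟨b, hb⟩⁆ : S) ∈ T.subgroupOf S := by
    rw [commutatorElement_def, hm, hm, hm, inv_mem_iff, inv_mem_iff]
    tauto
  exact h1

end Cfsg.Agent.GH.NFour.Key
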