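import Cfsg.Agent.GH.NFour.Index
import Cfsg.Agent.GH.NFour.Key
import Cfsg.Agent.GTwoFour.TransferTL

/-!
# `|S : T| = 2`: the extremal conjugates of `x` outside `T`

`Index.Hyp S T x`, `T.relIndex S = 2`, `φ : S →* A` (`A` abelian) with `φ x ≠ 1`, `G` without homomorphisms to
`A`: there is a conjugate `y ∈ S - T` of `x` and an involution `c ∈ Z(S)` with `s y s⁻¹ ∈ {y, c y}` for all
`s ∈ S` (`exists_ext`).
-/

set_option autoImplicit false

open Subgroup

namespace Cfsg.Agent.GH.NFour.Ext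

open Cfsg.Agent.GH.NFour.Index

variable {G : Type*} [Group G] {S : Sylow 2 G} {T : Subgroup G} {x : G}

theorem card_lt (h : Hyp S T x) [Finite G] : Nat.card T < Nat.card S := by
  rcases Nat.lt_or_ge (Nat.card T) (Nat.card S) with h1 | h1
  · exact h1
  · exact absurd (Subgroup.eq_of_le_of_card_ge h.le h1) h.ne

/-- no conjugate of `x` is central in `S` -/
theorem not_central (h : Hyp S T x) [Finite G] (g : G) : ¬ ∀ s ∈ S, s * (g⁻¹ * x * g) = g⁻¹ * x * g * s := by
  intro h1
  have h2 : Nat.card ((S : Subgroup G).map (MulAut.conj g).toMonoidHom) ≤ Nat.card T := by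
    refine h.syl _ (S.2.map _) ?_
    rintro _ ⟨s, hs, rfl⟩
    have h3 := h1 s hs
    show x * (g * s * g⁻¹) = g * s * g⁻¹ * x
    calc x * (g * s * g⁻¹) = g * ((g⁻¹ * x * g) * s) * g⁻¹ := by group
      _ = g * (s * (g⁻¹ * x * g)) * g⁻¹ := by rw [h3]
      _ = g * s * g⁻¹ * x := by group
  rw [← Nat.card_congr ((S : Subgroup G).equivMapOfInjective _ (MulAut.conj g).injective).toEquiv] at h2
  exact absurd (card_lt h) (not_lt.2 h2)

/-- `T = C_S(x)` -/
theorem mem_T (h : Hyp S T x) [Finite G] {s : G} (hs : s ∈ S) (hx : x * s = s * x) : s ∈ T := by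
  have := h.mem_of (g := 1) (P := (S : Subgroup G) ⊓ centralizer {x}) (S.2.to_le inf_le_left)
    (by
      intro p hp
      have := mem_centralizer_singleton_iff.1 hp.2
      simpa using this.symm)
    (by
      intro t ht
      simp only [one_mul, inv_one, mul_one]
      exact ⟨h.le ht, mem_centralizer_singleton_iff.2 (h.comm t ht).symm⟩)
    (p := s) ⟨hs, mem_centralizer_singleton_iff.2 hx.symm⟩
  simpa using this

/-- **Extremal conjugates outside `T`.** -/
theorem exists_ext (h : Hyp S T x) [Finite G] (hidx : T.relIndex (S : Subgroup G) = 2) {A : Type*}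
    [CommGroup A] (φ : (S : Subgroup G) →* A) (hφ : φ ⟨x, h.le h.mem⟩ ≠ 1) (hG : ∀ f : G →* A, f x = 1) :
    ∃ g : G, g⁻¹ * x * g ∈ S ∧ g⁻¹ * x * g ∉ T ∧ ∃ c : G, c ∈ T ∧ c ≠ 1 ∧ c * c = 1 ∧
      (∀ s ∈ S, s * c = c * s) ∧
      ∀ s ∈ S, s * (g⁻¹ * x * g) * s⁻¹ = g⁻¹ * x * g ∨ s * (g⁻¹ * x * g) * s⁻¹ = c * (g⁻¹ * x * g) := by
  have hodd : ∀ k : G, Odd ((S : Subgroup G).relIndex (centralizer {k⁻¹ * x * k})) ↔
      Nat.card ((S : Subgroup G) ⊓ centralizer {k⁻¹ * x * k} : Subgroup G) = Nat.card T := by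
    intro k
    -- `C = C(x^k)`, its Sylow 2-subgroups have order `|T|`
    set C := centralizer ({k⁻¹ * x * k} : Set G) with hC
    have hCx : ∀ c : G, c ∈ C ↔ x * (k * c * k⁻¹) = (k * c * k⁻¹) * x := by
      intro c
      rw [hC, mem_centralizer_singleton_iff]
      constructor
      · intro h1
        calc x * (k * c * k⁻¹) = k * ((k⁻¹ * x * k) * c) * k⁻¹ := by group
          _ = k * (c * (k⁻¹ * x * k)) * k⁻¹ := by rw [h1]
          _ = (k * c * k⁻¹) * x := by group
      · intro h1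
        calc c * (k⁻¹ * x * k) = k⁻¹ * ((k * c * k⁻¹) * x) * k := by group
          _ = k⁻¹ * (x * (k * c * k⁻¹)) * k := by rw [h1]
          _ = k⁻¹ * x * k * c := by group
    have hsyl : ∀ P : Subgroup G, IsPGroup 2 P → P ≤ C → Nat.card P ≤ Nat.card T := by
      intro P hP hPC
      rw [Nat.card_congr (P.equivMapOfInjective (MulAut.conj k).toMonoidHom
        (MulAut.conj k).injective).toEquiv]
      refine h.syl _ (hP.map _) ?_
      rintro _ ⟨p, hp, rfl⟩
      exact (hCx p).1 (hPC hp)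
    have hT' : (T.map (MulAut.conj k⁻¹).toMonoidHom) ≤ C := by
      rintro _ ⟨t, ht, rfl⟩
      rw [hCx]
      show x * (k * (k⁻¹ * t * k⁻¹⁻¹) * k⁻¹) = k * (k⁻¹ * t * k⁻¹⁻¹) * k⁻¹ * x
      have e : k * (k⁻¹ * t * k⁻¹⁻¹) * k⁻¹ = t := by group
      rw [e]
      exact h.comm t ht
    have hT'2 : IsPGroup 2 (T.map (MulAut.conj k⁻¹).toMonoidHom) := (S.2.to_le h.le).map _
    have hT'c : Nat.card (T.map (MulAut.conj k⁻¹).toMonoidHom) = Nat.card T :=
      Nat.card_congr (T.equivMapOfInjective _ (MulAut.conj k⁻¹).injective).toEquiv.symm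
    -- a Sylow 2-subgroup `P` of `C` has order `|T|`
    obtain ⟨P, hP⟩ := (IsPGroup.exists_le_sylow (G := C)
      (P := (T.map (MulAut.conj k⁻¹).toMonoidHom).subgroupOf C) (hT'2.comap_subtype))
    have hPcard : Nat.card P = Nat.card T := by
      apply le_antisymm
      · have h1 := hsyl ((P : Subgroup C).map C.subtype) (P.2.map _) (by
          rintro _ ⟨a, -, rfl⟩; exact a.2)
        rwa [← Nat.card_congr ((P : Subgroup C).equivMapOfInjective _ C.subtype_injective).toEquiv] at h1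
      · rw [← hT'c, ← Nat.card_congr (Subgroup.subgroupOfEquivOfLe hT').toEquiv]
        exact Subgroup.card_le_of_le hP
    have hcard := Subgroup.card_mul_index (((S : Subgroup G)).subgroupOf C)
    have hcardP := Subgroup.card_mul_index (P : Subgroup C)
    have hinf : Nat.card (((S : Subgroup G)).subgroupOf C) =
        Nat.card ((S : Subgroup G) ⊓ C : Subgroup G) := by
      rw [inf_comm]
      have e := Subgroup.map_subgroupOf_eq_of_le (H := C ⊓ (S : Subgroup G)) (K := C) inf_le_left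
      rw [← Nat.card_congr (Subgroup.subgroupOfEquivOfLe (H := C ⊓ (S : Subgroup G)) (K := C)
        inf_le_left).toEquiv]
      congr 2
      ext a
      simp [Subgroup.mem_subgroupOf]
    rw [← hinf]
    have hi : (S : Subgroup G).relIndex C = (((S : Subgroup G)).subgroupOf C).index := rfl
    rw [hi]
    constructor
    · intro ho
      -- the order of `S ∩ C` is the 2-part
      have hPi : ¬ 2 ∣ (P : Subgroup C).index := P.not_dvd_index
      have hSp : IsPGroup 2 (((S : Subgroup G)).subgroupOf C) := S.2.comap_subtype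
      obtain ⟨a, ha⟩ := hSp.exists_card_eq
      obtain ⟨b, hb⟩ := P.2.exists_card_eq
      have h3 : 2 ^ a * (((S : Subgroup G)).subgroupOf C).index = 2 ^ b * (P : Subgroup C).index := by
        rw [← ha, ← hb, hcard, hcardP]
      have hoc : Nat.Coprime (2 ^ b) (((S : Subgroup G)).subgroupOf C).index :=
        Nat.Coprime.pow_left b (Nat.coprime_two_left.2 ho)
      have hoc' : Nat.Coprime (2 ^ a) (P : Subgroup C).index := by
        apply Nat.Coprime.pow_left
        rw [Nat.coprime_two_left]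
        exact Nat.odd_iff.2 (by omega)
      have h4 : 2 ^ a ∣ 2 ^ b := hoc'.dvd_of_dvd_mul_right (Dvd.intro _ h3)
      have h5 : 2 ^ b ∣ 2 ^ a := hoc.dvd_of_dvd_mul_right (Dvd.intro _ h3.symm)
      rw [ha, Nat.dvd_antisymm h4 h5, ← hb, hPcard]
    · intro hc
      have hPi : ¬ 2 ∣ (P : Subgroup C).index := P.not_dvd_index
      rw [hc, ← hPcard] at hcard
      have h6 : (((S : Subgroup G)).subgroupOf C).index = (P : Subgroup C).index := by
        apply Nat.eq_of_mul_eq_mul_left (Nat.card_pos (α := P))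
        rw [hcard, hcardP]
      rw [h6]
      exact Nat.odd_iff.2 (by omega)
  obtain ⟨g, hg, -, hog, hns⟩ := Cfsg.Agent.GTwoFour.TransferTL.exists_extremal (S : Subgroup G) φ x hG
    h.xx (h.le h.mem) hφ (by
      have h1 := (hodd 1).2 (by
        have e : (S : Subgroup G) ⊓ centralizer {(1 : G)⁻¹ * x * 1} = T := by
          have e0 : (1 : G)⁻¹ * x * 1 = x := by group
          rw [e0]
          apply le_antisymm
          · intro s hs
            exact mem_T h hs.1 (mem_centralizer_singleton_iff.1 hs.2).symm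
          · intro t ht
            exact ⟨h.le ht, mem_centralizer_singleton_iff.2 (h.comm t ht).symm⟩
        rw [e])
      have e0 : (1 : G)⁻¹ * x * 1 = x := by group
      rwa [e0] at h1)
  have hcT := (hodd g).1 hog
  set y := g⁻¹ * x * g with hy
  set T' : Subgroup G := (S : Subgroup G) ⊓ centralizer {y} with hT'
  have hyy : y * y = 1 := by
    calc y * y = g⁻¹ * (x * x) * g := by rw [hy]; group
      _ = 1 := by rw [h.xx]; group
  have hmemT' : ∀ s ∈ S, s ∈ T' ↔ s * y = y * s := by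
    intro s hs
    rw [hT', mem_inf, mem_centralizer_singleton_iff]
    exact ⟨fun h1 => h1.2, fun h1 => ⟨hs, h1⟩⟩
  have hidx' : T'.relIndex (S : Subgroup G) = 2 := by
    have h1 := Subgroup.relIndex_mul_relIndex ⊥ T' (S : Subgroup G) bot_le inf_le_left
    have h2 := Subgroup.relIndex_mul_relIndex ⊥ T (S : Subgroup G) bot_le h.le
    rw [relIndex_bot_left, relIndex_bot_left, hcT] at h1
    rw [relIndex_bot_left, relIndex_bot_left, hidx, ← h1] at h2
    exact (Nat.eq_of_mul_eq_mul_left (Nat.card_pos) h2).symm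
  have hmul : ∀ a b : G, a ∈ S → b ∈ S → (a * b ∈ T' ↔ (a ∈ T' ↔ b ∈ T')) := by
    intro a b ha hb
    exact Subgroup.mul_mem_iff_of_index_two (H := T'.subgroupOf (S : Subgroup G)) hidx' (a := ⟨a, ha⟩)
      (b := ⟨b, hb⟩)
  have hnc := not_central h g
  rw [← hy] at hnc
  push Not at hnc
  obtain ⟨s₀, hs₀, hs₀y⟩ := hnc
  have hs₀T : s₀ ∉ T' := fun h1 => hs₀y ((hmemT' s₀ hs₀).1 h1)
  set y' := s₀ * y * s₀⁻¹ with hy'
  have hin : ∀ s ∈ S, s ∈ T' → s * y * s⁻¹ = y := by
    intro s hs h1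
    rw [(hmemT' s hs).1 h1, mul_inv_cancel_right]
  have hout : ∀ s ∈ S, s ∉ T' → s * y * s⁻¹ = y' := by
    intro s hs h1
    have h2 : s₀⁻¹ * s ∈ T' := by
      rw [hmul _ _ ((S : Subgroup G).inv_mem hs₀) hs, inv_mem_iff]
      exact iff_of_false hs₀T h1
    have h3 := hin _ ((S : Subgroup G).mul_mem ((S : Subgroup G).inv_mem hs₀) hs) h2
    calc s * y * s⁻¹ = s₀ * ((s₀⁻¹ * s) * y * (s₀⁻¹ * s)⁻¹) * s₀⁻¹ := by group
      _ = y' := by rw [h3]
  have hy'in : ∀ s ∈ S, s ∈ T' → s * y' * s⁻¹ = y' := by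
    intro s hs h1
    have h2 : s * s₀ ∉ T' := by
      rw [hmul _ _ hs hs₀]
      exact fun h3 => hs₀T (h3.1 h1)
    calc s * y' * s⁻¹ = (s * s₀) * y * (s * s₀)⁻¹ := by rw [hy']; group
      _ = y' := hout _ ((S : Subgroup G).mul_mem hs hs₀) h2
  have hy'out : ∀ s ∈ S, s ∉ T' → s * y' * s⁻¹ = y := by
    intro s hs h1
    have h2 : s * s₀ ∈ T' := by
      rw [hmul _ _ hs hs₀]
      exact iff_of_false h1 hs₀T
    calc s * y' * s⁻¹ = (s * s₀) * y * (s * s₀)⁻¹ := by rw [hy']; group
      _ = y := hin _ ((S : Subgroup G).mul_mem hs hs₀) h2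
  have hyT' : y ∈ T' := (hmemT' y hg).2 rfl
  have hcom : y * y' = y' * y := by
    have h1 := hy'in y hg hyT'
    calc y * y' = (y * y' * y⁻¹) * y := by group
      _ = y' * y := by rw [h1]
  have hy'y' : y' * y' = 1 := by
    calc y' * y' = s₀ * (y * y) * s₀⁻¹ := by rw [hy']; group
      _ = 1 := by rw [hyy]; group
  have hyi : y⁻¹ = y := inv_eq_of_mul_eq_one_right hyy
  have hcy : y' = (y' * y) * y := by rw [mul_assoc, hyy, mul_one]
  have hcc : (y' * y) * (y' * y) = 1 := by
    calc (y' * y) * (y' * y) = y' * (y * y') * y := by group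
      _ = y' * (y' * y) * y := by rw [hcom]
      _ = (y' * y') * (y * y) := by group
      _ = 1 := by rw [hyy, hy'y', one_mul]
  have hc1 : y' * y ≠ 1 := by
    intro h1
    apply hs₀y
    have h2 : y' = y := by rw [hcy, h1, one_mul]
    calc s₀ * y = (s₀ * y * s₀⁻¹) * s₀ := by group
      _ = y * s₀ := by rw [← hy', h2]
  have hcen : ∀ s ∈ S, s * (y' * y) = (y' * y) * s := by
    intro s hs
    have h1 : s * (y' * y) * s⁻¹ = y' * y := by
      have e : s * (y' * y) * s⁻¹ = (s * y' * s⁻¹) * (s * y * s⁻¹) := by group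
      by_cases hsT : s ∈ T'
      · rw [e, hy'in s hs hsT, hin s hs hsT]
      · rw [e, hy'out s hs hsT, hout s hs hsT, hcom]
    calc s * (y' * y) = (s * (y' * y) * s⁻¹) * s := by group
      _ = (y' * y) * s := by rw [h1]
  have hy'S : y' ∈ S := (S : Subgroup G).mul_mem ((S : Subgroup G).mul_mem hs₀ hg)
    ((S : Subgroup G).inv_mem hs₀)
  have hcT2 : y' * y ∈ T := mem_T h ((S : Subgroup G).mul_mem hy'S hg) (hcen x (h.le h.mem))
  have hyconj : ∀ s ∈ S, s * y * s⁻¹ = y ∨ s * y * s⁻¹ = (y' * y) * y := by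
    intro s hs
    by_cases hsT : s ∈ T'
    · exact Or.inl (hin s hs hsT)
    · right; rw [hout s hs hsT]; exact hcy
  refine ⟨g, hg, ?_, y' * y, hcT2, hc1, hcc, hcen, hyconj⟩
  intro hyT
  have hy1 : y ≠ 1 := by
    intro h1
    apply hs₀y
    rw [h1, mul_one, one_mul]
  have hyc : y ≠ y' * y := by
    intro h1
    have h2 := hcen s₀ hs₀
    rw [← h1] at h2
    exact hs₀y h2
  rcases h.four (y' * y) hcT2 y hyT hcc hyy hc1 hy1 hyc (fun t ht => hcen t (h.le ht))
    (fun t ht => hyconj t (h.le ht)) with h1 | h1 | h1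
  · apply not_central h 1
    intro s hs
    have e0 : (1 : G)⁻¹ * x * 1 = x := by group
    rw [e0, h1]
    exact hcen s hs
  · apply hns 1 (one_mem _)
    rw [← h1]; group
  · apply hns s₀ hs₀
    rw [h1, ← hcy, hy']; group

end Cfsg.Agent.GH.NFour.Ext
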