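import Cfsg.Agent.GH.L2QTwo.Zero
import Cfsg.Agent.GH.NFour.End

/-!
# From the frame to the data of `NFour.End`

`Frame x K T D d r c o1 o2`, `d ≥ 3`, no field involution in `T`, and `d ≥ 4` or some element of `T` swaps the
two classes of reflections of `D`.  Then every normal four-group of `T` is `⟨x, z⟩` (`four`), and if
`T < S` then `|S : T| = 2` and `End.Dat S T x z c ρ w r` (`exists_dat`).
-/

set_option autoImplicit false

open Subgroup

namespace Cfsg.Agent.GH.NFour.Four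

open Cfsg.Agent.GH.L2QTwo Cfsg.Agent.GH.NFour.Index Cfsg.Agent.GH.NFour.Ext Cfsg.Agent.GH.NFour.End

variable {G A : Type*} [Group G] [Group A] {x : G} {K T D : Subgroup G} {d : ℕ} {r c : G}
  {o1 : G → ℤˣ} {o2 : G → A}

theorem two_dvd (hd : 3 ≤ d) : (4 : ℤ) ∣ 2 ^ (d - 1) := by
  have h3 : (2 : ℤ) ^ 2 ∣ 2 ^ (d - 1) := pow_dvd_pow 2 (by omega)
  norm_num at h3
  exact h3

theorem r_sq_ne (F : Frame x K T D d r c o1 o2) (hd : 3 ≤ d) : r ^ (2 : ℤ) ≠ 1 := by
  intro h
  rw [F.rk_one] at h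
  have := (two_dvd hd).trans h
  omega

theorem r_refl (F : Frame x K T D d r c o1 o2) (k : ℤ) : r * (r ^ k * c) * r⁻¹ = r ^ (k + 2) * c := by
  have h1 : c * r⁻¹ = r * c := by
    have := F.c_rk (-1)
    simpa using this
  calc r * (r ^ k * c) * r⁻¹ = r * r ^ k * (c * r⁻¹) := by group
    _ = r * r ^ k * (r * c) := by rw [h1]
    _ = r ^ (k + 2) * c := by group

/-- the involutions of `T` -/
theorem inv_cases (F : Frame x K T D d r c o1 o2) (hd : 3 ≤ d)
    (nf : ∀ y ∈ T, y * y = 1 → o2 y = 1) {t : G} (ht : t ∈ T) (htt : t * t = 1) :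
    (t = 1 ∨ t = r ^ 2 ^ (d - 2) ∨ t = x ∨ t = x * r ^ 2 ^ (d - 2)) ∨
      (∃ k : ℤ, t = r ^ k * c ∨ t = x * (r ^ k * c)) ∨
      (o1 t ≠ 1 ∧ t * r * t⁻¹ = r⁻¹ ∧ ∃ k : ℤ, Odd k ∧ t * c * t⁻¹ = r ^ k * c) := by
  have h2 := nf t ht htt
  by_cases h1 : o1 t = 1
  · obtain ⟨e, he, h | h⟩ := F.ker t ht h1 h2
    · subst h
      rcases F.inv_form he htt with h3 | h3 | ⟨k, h3⟩
      · exact Or.inl (Or.inl h3)
      · exact Or.inl (Or.inr (Or.inl h3))
      · exact Or.inr (Or.inl ⟨k, Or.inl h3⟩)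
    · have hee : e * e = 1 := by
        rw [h] at htt
        calc e * e = (x * x) * e * e := by rw [F.xx, one_mul]
          _ = x * (x * e) * e := by group
          _ = x * (e * x) * e := by rw [F.x_comm_D he]
          _ = x * e * (x * e) := by group
          _ = 1 := htt
      rcases F.inv_form he hee with h3 | h3 | ⟨k, h3⟩
      · left; right; right; left; rw [h, h3, mul_one]
      · left; right; right; right; rw [h, h3]
      · exact Or.inr (Or.inl ⟨k, Or.inr (by rw [h, h3])⟩)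
  · right; right
    obtain ⟨k, hk⟩ := F.conj_c hd ht
    obtain ⟨l, hlo, hl⟩ := F.conj_r hd ht
    have hk' : Odd k := by
      rw [← Int.not_even_iff_odd]
      intro h3
      exact h1 ((F.swap hd t ht k hk).2 h3)
    refine ⟨h1, ?_, k, hk', hk⟩
    have hti : t⁻¹ = t := inv_eq_of_mul_eq_one_right htt
    have h3 : c = r ^ (l * k + k) * c := by
      calc c = (t * t) * c * (t * t)⁻¹ := by rw [htt]; group
        _ = t * (t * c * t⁻¹) * t⁻¹ := by group
        _ = t * (r ^ k * c) * t⁻¹ := by rw [hk]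
        _ = (t * r ^ k * t⁻¹) * (t * c * t⁻¹) := by group
        _ = r ^ (l * k) * (r ^ k * c) := by rw [F.conj_rk hl, hk]
        _ = r ^ (l * k + k) * c := by rw [zpow_add, mul_assoc]
    have h4 : r ^ (l * k + k) = 1 := by
      have : 1 * c = r ^ (l * k + k) * c := by rw [one_mul]; exact h3
      exact (mul_right_cancel this).symm
    rw [F.rk_one] at h4
    have h5 : (2 : ℤ) ^ (d - 1) ∣ l + 1 := by
      have hcop : IsCoprime ((2 : ℤ) ^ (d - 1)) k := by
        apply IsCoprime.pow_left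
        obtain ⟨j, hj⟩ := hk'
        exact ⟨-j, 1, by rw [hj]; ring⟩
      refine hcop.dvd_of_dvd_mul_right ?_
      have e : (l + 1) * k = l * k + k := by ring
      rw [e]; exact h4
    have h6 : r ^ l = r ^ (-1 : ℤ) := by
      rw [F.rk_eq]
      simpa using h5
    rw [hl, h6, zpow_neg, zpow_one]

/-- the involutions of `C_T(r)` -/
theorem inv_r (F : Frame x K T D d r c o1 o2) (hd : 3 ≤ d)
    (nf : ∀ y ∈ T, y * y = 1 → o2 y = 1) {t : G} (ht : t ∈ T) (htt : t * t = 1) (htr : t * r = r * t) :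
    t = 1 ∨ t = r ^ 2 ^ (d - 2) ∨ t = x ∨ t = x * r ^ 2 ^ (d - 2) := by
  have hrefl : ∀ k : ℤ, r * (r ^ k * c) * r⁻¹ ≠ r ^ k * c := by
    intro k h
    rw [r_refl F, zpow_add, mul_assoc] at h
    have h1 : r ^ (2 : ℤ) * c = c := mul_left_cancel h
    have h2 : r ^ (2 : ℤ) * c = 1 * c := by rw [one_mul]; exact h1
    exact r_sq_ne F hd (mul_right_cancel h2)
  have hrt : r * t * r⁻¹ = t := by rw [← htr, mul_inv_cancel_right]
  rcases inv_cases F hd nf ht htt with h | ⟨k, h | h⟩ | ⟨-, h, -⟩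
  · exact h
  · exfalso
    rw [h] at hrt
    exact hrefl k hrt
  · exfalso
    apply hrefl k
    have h1 : x * (r * (r ^ k * c) * r⁻¹) = x * (r ^ k * c) := by
      rw [h] at hrt
      calc x * (r * (r ^ k * c) * r⁻¹) = (x * r) * (r ^ k * c) * r⁻¹ := by group
        _ = (r * x) * (r ^ k * c) * r⁻¹ := by rw [F.x_comm_D F.r_mem]
        _ = r * (x * (r ^ k * c)) * r⁻¹ := by group
        _ = x * (r ^ k * c) := hrt
    exact mul_left_cancel h1
  · exfalso
    rw [htr, mul_inv_cancel_right] at h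
    apply r_sq_ne F hd
    rw [zpow_two]
    calc r * r = r * r⁻¹ := by rw [← h]
      _ = 1 := mul_inv_cancel r

/-- **every normal four-group of `T` contains `x`** -/
theorem four (F : Frame x K T D d r c o1 o2) (hd : 3 ≤ d) (nf : ∀ y ∈ T, y * y = 1 → o2 y = 1)
    (hcase : 4 ≤ d ∨ ∃ t ∈ T, o1 t ≠ 1) :
    ∀ a ∈ T, ∀ b ∈ T, a * a = 1 → b * b = 1 → a ≠ 1 → b ≠ 1 → b ≠ a →
      (∀ t ∈ T, t * a = a * t) → (∀ t ∈ T, t * b * t⁻¹ = b ∨ t * b * t⁻¹ = a * b) →
      x = a ∨ x = b ∨ x = a * b := by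
  intro a ha b hb haa hbb ha1 hb1 hba hac hbc
  have hxT := F.x_mem
  have hzx : r ^ 2 ^ (d - 2) * x = x * r ^ 2 ^ (d - 2) := (F.x_comm_D F.z_mem).symm
  have hpow : ∀ k : ℤ, Odd k → r ^ k ≠ 1 := by
    rintro k ⟨j, hj⟩ h
    rw [F.rk_one] at h
    have h1 := (two_dvd hd).trans h
    omega
  have refl_case : ∀ k : ℤ, (b = r ^ k * c ∨ b = x * (r ^ k * c)) → False := by
    intro k hk
    have hr2 : r * b * r⁻¹ = r ^ (2 : ℤ) * b := by
      rcases hk with h | h <;> rw [h]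
      · rw [r_refl F, ← mul_assoc, ← zpow_add, add_comm]
      · calc r * (x * (r ^ k * c)) * r⁻¹ = (r * x) * (r ^ k * c) * r⁻¹ := by group
          _ = (x * r) * (r ^ k * c) * r⁻¹ := by rw [F.x_comm_D F.r_mem]
          _ = x * (r * (r ^ k * c) * r⁻¹) := by group
          _ = x * (r ^ (2 : ℤ) * (r ^ k * c)) := by
            rw [r_refl F, ← mul_assoc (r ^ (2 : ℤ)), ← zpow_add, add_comm]
          _ = (x * r ^ (2 : ℤ)) * (r ^ k * c) := by group
          _ = (r ^ (2 : ℤ) * x) * (r ^ k * c) := by rw [F.x_comm_D (F.r_rk 2)]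
          _ = r ^ (2 : ℤ) * (x * (r ^ k * c)) := by group
    have ha2 : a = r ^ (2 : ℤ) := by
      rcases hbc r F.r_T with h | h
      · exfalso
        rw [hr2] at h
        have : r ^ (2 : ℤ) * b = 1 * b := by rw [one_mul]; exact h
        exact r_sq_ne F hd (mul_right_cancel this)
      · rw [hr2] at h
        exact (mul_right_cancel h).symm
    have hd3 : d = 3 := by
      rw [ha2, ← zpow_add, F.rk_one] at haa
      norm_num at haa
      by_contra hne
      have h8 : (2 : ℤ) ^ 3 ∣ 2 ^ (d - 1) := pow_dvd_pow 2 (by omega)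
      have := h8.trans haa
      norm_num at this
    obtain ⟨t, ht, ht1⟩ : ∃ t ∈ T, o1 t ≠ 1 := by
      rcases hcase with h | h
      · omega
      · exact h
    obtain ⟨m, hm⟩ := F.conj_c hd ht
    obtain ⟨l, hlo, hl⟩ := F.conj_r hd ht
    have hmo : Odd m := by
      rw [← Int.not_even_iff_odd]
      intro h3
      exact ht1 ((F.swap hd t ht m hm).2 h3)
    have htb : t * b * t⁻¹ = r ^ (l * k + m - k) * b := by
      have h0 : t * (r ^ k * c) * t⁻¹ = r ^ (l * k + m - k) * (r ^ k * c) := by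
        calc t * (r ^ k * c) * t⁻¹ = (t * r ^ k * t⁻¹) * (t * c * t⁻¹) := by group
          _ = r ^ (l * k) * (r ^ m * c) := by rw [F.conj_rk hl, hm]
          _ = r ^ (l * k + m - k) * (r ^ k * c) := by
            rw [← mul_assoc, ← mul_assoc, ← zpow_add, ← zpow_add]
            congr 2
            ring
      rcases hk with h | h <;> rw [h]
      · exact h0
      · calc t * (x * (r ^ k * c)) * t⁻¹ = (t * x) * (r ^ k * c) * t⁻¹ := by group
          _ = (x * t) * (r ^ k * c) * t⁻¹ := by rw [F.T_comm t ht]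
          _ = x * (t * (r ^ k * c) * t⁻¹) := by group
          _ = x * (r ^ (l * k + m - k) * (r ^ k * c)) := by rw [h0]
          _ = (x * r ^ (l * k + m - k)) * (r ^ k * c) := by group
          _ = (r ^ (l * k + m - k) * x) * (r ^ k * c) := by rw [F.x_comm_D (F.r_rk _)]
          _ = r ^ (l * k + m - k) * (x * (r ^ k * c)) := by group
    have hodd : Odd (l * k + m - k) := by
      obtain ⟨i, hi⟩ := hlo
      obtain ⟨j, hj⟩ := hmo
      exact ⟨i * k + j, by rw [hi, hj]; ring⟩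
    rcases hbc t ht with h | h
    · rw [htb] at h
      have : r ^ (l * k + m - k) * b = 1 * b := by rw [one_mul]; exact h
      exact hpow _ hodd (mul_right_cancel this)
    · rw [htb, ha2] at h
      have h1 := mul_right_cancel h
      rw [F.rk_eq] at h1
      have h2 := (two_dvd hd).trans h1
      obtain ⟨i, hi⟩ := hodd
      omega
  have d_case : (o1 b ≠ 1 ∧ b * r * b⁻¹ = r⁻¹ ∧ ∃ k : ℤ, Odd k ∧ b * c * b⁻¹ = r ^ k * c) → False := by
    rintro ⟨-, -, k, hk, hbk⟩
    have hcb : c * b * c⁻¹ = r ^ (-k) * b := by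
      have h1 : b * c⁻¹ * b⁻¹ = r ^ k * c := by
        rw [F.c_inv]; exact hbk
      calc c * b * c⁻¹ = c * (b * c⁻¹ * b⁻¹) * b := by group
        _ = c * (r ^ k * c) * b := by rw [h1]
        _ = (c * r ^ k) * c * b := by group
        _ = r ^ (-k) * (c * c) * b := by rw [F.c_rk]; group
        _ = r ^ (-k) * b := by rw [F.cc, mul_one]
    have hko : Odd (-k) := hk.neg
    rcases hbc c F.c_T with h | h
    · rw [hcb] at h
      have : r ^ (-k) * b = 1 * b := by rw [one_mul]; exact h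
      exact hpow _ hko (mul_right_cancel this)
    · rw [hcb] at h
      have h1 := mul_right_cancel h
      rw [← h1, ← zpow_add, F.rk_one] at haa
      have h2 := (two_dvd hd).trans haa
      obtain ⟨i, hi⟩ := hko
      omega
  have ha' := (inv_r F hd nf ha haa (hac r F.r_T).symm).resolve_left ha1
  have hb' : b = r ^ 2 ^ (d - 2) ∨ b = x ∨ b = x * r ^ 2 ^ (d - 2) := by
    rcases inv_cases F hd nf hb hbb with h | ⟨k, h⟩ | h
    · exact h.resolve_left hb1
    · exact (refl_case k h).elim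
    · exact (d_case h).elim
  rcases ha' with ha' | ha' | ha'
  · rcases hb' with h | h | h
    · exact absurd (h.trans ha'.symm) hba
    · exact Or.inr (Or.inl h.symm)
    · right; right
      rw [ha', h, ← mul_assoc, hzx, mul_assoc, F.z_sq, mul_one]
  · exact Or.inl ha'.symm
  · rcases hb' with h | h | h
    · right; right
      rw [ha', h, mul_assoc, F.z_sq, mul_one]
    · exact Or.inr (Or.inl h.symm)
    · exact absurd (h.trans ha'.symm) hba

theorem mkHyp [Finite G] (F : Frame x K T D d r c o1 o2) (hd : 3 ≤ d)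
    (nf : ∀ y ∈ T, y * y = 1 → o2 y = 1) (hcase : 4 ≤ d ∨ ∃ t ∈ T, o1 t ≠ 1) {S : Sylow 2 G}
    (hTS : T ≤ S) (hne : T ≠ S) : Hyp S T x where
  le := hTS
  ne := hne
  mem := F.x_mem
  xx := F.xx
  x_ne := F.x_ne
  comm := F.T_comm
  syl := by
    intro P hP hPx
    obtain ⟨g, -, hg⟩ := F.T_syl P hP hPx
    have h1 : P.map (MulAut.conj g).toMonoidHom ≤ T := by
      rintro _ ⟨p, hp, rfl⟩
      exact hg p hp
    rw [Nat.card_congr (P.equivMapOfInjective (MulAut.conj g).toMonoidHom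
      (MulAut.conj g).injective).toEquiv]
    exact Subgroup.card_le_of_le h1
  four := four F hd nf hcase

/-- two distinct commuting involutions generate a four-group -/
theorem exists_klein {P : Type*} [Group P] {a b : P} (ha : a * a = 1) (hb : b * b = 1) (ha1 : a ≠ 1)
    (hb1 : b ≠ 1) (hab : a ≠ b) (hc : a * b = b * a) :
    ∃ W : Subgroup P, Nat.card W = 4 ∧ (∀ w ∈ W, w ^ 2 = 1) ∧
      ∀ w, w ∈ W ↔ (w = 1 ∨ w = a ∨ w = b ∨ w = a * b) := by
  have m1 : a * (a * b) = b := by rw [← mul_assoc, ha, one_mul]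
  have m2 : b * (a * b) = a := by rw [← mul_assoc, ← hc, mul_assoc, hb, mul_one]
  have m3 : a * b * a = b := by rw [mul_assoc, ← hc, m1]
  have m4 : a * b * b = a := by rw [mul_assoc, hb, mul_one]
  have m5 : a * b * (a * b) = 1 := by rw [← mul_assoc, m3, hb]
  have hab1 : a * b ≠ 1 := by
    intro h
    apply hab
    calc a = (a * b) * b := m4.symm
      _ = b := by rw [h, one_mul]
  let W : Subgroup P :=
    { carrier := {w | w = 1 ∨ w = a ∨ w = b ∨ w = a * b}
      one_mem' := Or.inl rfl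
      mul_mem' := by
        rintro u v (rfl | rfl | rfl | rfl) (rfl | rfl | rfl | rfl) <;>
          simp only [Set.mem_ofPred_eq, one_mul, mul_one, true_or, or_true, ha, hb, m1, m2, m3, m4, m5, ← hc]
      inv_mem' := by
        have hai : a⁻¹ = a := inv_eq_of_mul_eq_one_right ha
        have hbi : b⁻¹ = b := inv_eq_of_mul_eq_one_right hb
        rintro u (rfl | rfl | rfl | rfl)
        · simp
        · simp only [Set.mem_ofPred_eq, hai, true_or, or_true]
        · simp only [Set.mem_ofPred_eq, hbi, true_or, or_true]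
        · simp only [Set.mem_ofPred_eq, mul_inv_rev, hai, hbi, ← hc, or_true] }
  refine ⟨W, ?_, ?_, fun w => Iff.rfl⟩
  · have h1 : (W : Set P) = {1, a, b, a * b} := by
      ext w
      simp only [Set.mem_insert_iff, Set.mem_singleton_iff]
      exact Iff.rfl
    have h2 : Nat.card W = (W : Set P).ncard := rfl
    rw [h2, h1, Set.ncard_insert_of_notMem, Set.ncard_insert_of_notMem, Set.ncard_pair]
    · intro h
      apply ha1
      have : 1 * b = a * b := by rw [one_mul]; exact h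
      exact (mul_right_cancel this).symm
    · simp only [Set.mem_insert_iff, Set.mem_singleton_iff, not_or]
      refine ⟨hab, fun h => hb1 ?_⟩
      have : a * 1 = a * b := by rw [mul_one]; exact h
      exact (mul_left_cancel this).symm
    · simp only [Set.mem_insert_iff, Set.mem_singleton_iff, not_or]
      exact ⟨fun h => ha1 h.symm, fun h => hb1 h.symm, fun h => hab1 h.symm⟩
  · rintro w (rfl | rfl | rfl | rfl)
    · rw [one_pow]
    · rw [pow_two, ha]
    · rw [pow_two, hb]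
    · rw [pow_two, m5]

/-- `⟨x, z, c⟩` has order 8 -/
theorem exists_E [Finite G] (F : Frame x K T D d r c o1 o2) :
    ∃ E : Subgroup G, E ≤ T ∧ Nat.card E = 8 ∧ ∀ e ∈ E, e * e = 1 := by
  have hzc : (⟨r ^ 2 ^ (d - 2), F.D_le F.z_mem⟩ : T) ≠ ⟨c, F.c_T⟩ := by
    intro h
    have h1 : r ^ 2 ^ (d - 2) = c := congrArg Subtype.val h
    rw [F.zz] at h1
    exact F.c_not _ h1.symm
  obtain ⟨W, hW, hW2, hWm⟩ := exists_klein (P := T) (a := ⟨r ^ 2 ^ (d - 2), F.D_le F.z_mem⟩)
    (b := ⟨c, F.c_T⟩) (Subtype.ext F.z_sq) (Subtype.ext F.cc)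
    (fun h => F.z_ne (congrArg Subtype.val h)) (fun h => F.c_ne (congrArg Subtype.val h)) hzc
    (Subtype.ext (F.z_comm F.c_mem))
  have hWD : ∀ w ∈ W, (w : G) ∈ D := by
    intro w hw
    rcases (hWm w).1 hw with h | h | h | h <;> rw [h]
    · exact D.one_mem
    · exact F.z_mem
    · exact F.c_mem
    · exact D.mul_mem F.z_mem F.c_mem
  obtain ⟨E, hE, hE2, -, -⟩ := Cfsg.Agent.Involutions.RankThree.exists_eight W hW hW2
    (⟨x, F.x_mem⟩ : T) (by rw [pow_two]; exact Subtype.ext F.xx)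
    (fun h => F.x_not (hWD _ h)) (fun w hw => Subtype.ext (F.x_comm_D (hWD w hw)))
  refine ⟨E.map T.subtype, ?_, ?_, ?_⟩
  · rintro _ ⟨e, -, rfl⟩
    exact e.2
  · rw [← hE]
    exact Nat.card_congr (E.equivMapOfInjective T.subtype T.subtype_injective).toEquiv.symm
  · rintro _ ⟨e, he, rfl⟩
    have := hE2 e he
    rw [pow_two] at this
    exact congrArg Subtype.val this

/-- **The data of `NFour.End`.** -/
theorem mkDat [Finite G] (F : Frame x K T D d r c o1 o2) (hd : 3 ≤ d)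
    (nf : ∀ y ∈ T, y * y = 1 → o2 y = 1) (hcase : 4 ≤ d ∨ ∃ t ∈ T, o1 t ≠ 1) {S : Sylow 2 G}
    (hTS : T ≤ S) (hne : T ≠ S) (hG : ∀ f : G →* ℤˣ, f x = 1) {ρ : G} (ρx : ρ * x = x * ρ)
    (ρz : ρ * r ^ 2 ^ (d - 2) * ρ⁻¹ = c) (ρc : ρ * c * ρ⁻¹ = r ^ 2 ^ (d - 2) * c) :
    Dat S T x (r ^ 2 ^ (d - 2)) c ρ (r ^ 2 ^ (d - 3)) r := by
  have h := mkHyp F hd nf hcase hTS hne
  obtain ⟨E, hET, hE, hE2⟩ := exists_E F
  have hidx := h.relIndex_eq hG E (hET.trans hTS) hE hE2
  have hgood := F.good_of_ge hd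
  have hxz : x ≠ r ^ 2 ^ (d - 2) := fun h1 => F.x_not (h1 ▸ F.z_mem)
  have hnorm : ∀ s ∈ S, s ∈ normalizer (T : Set G) := by
    intro s hs
    have h1 : (T.subgroupOf (S : Subgroup G)).index = 2 := hidx
    have h2 : (T.subgroupOf (S : Subgroup G)).Normal := normal_of_index_eq_two h1
    rw [mem_normalizer_iff]
    intro t
    constructor
    · intro ht
      have h3 := h2.conj_mem ⟨t, hTS ht⟩ ht ⟨s, hs⟩
      exact h3
    · intro ht
      have h3 := h2.conj_mem ⟨s * t * s⁻¹, hTS ht⟩ ht ⟨s⁻¹, (S : Subgroup G).inv_mem hs⟩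
      have h4 : s⁻¹ * (s * t * s⁻¹) * s⁻¹⁻¹ ∈ T := h3
      have e : s⁻¹ * (s * t * s⁻¹) * s⁻¹⁻¹ = t := by group
      rwa [e] at h4
  have hzS : ∀ s ∈ S, s * r ^ 2 ^ (d - 2) = r ^ 2 ^ (d - 2) * s := fun s hs => hgood.zN s (hnorm s hs)
  have hxnc : ¬ ∀ s ∈ S, s * x = x * s := by
    intro h1
    apply not_central h 1
    intro s hs
    have e0 : (1 : G)⁻¹ * x * 1 = x := by group
    rw [e0]
    exact h1 s hs
  refine ⟨h, hidx, F.D_le F.z_mem, F.c_T, T.pow_mem F.r_T _, F.r_T, F.z_sq, F.z_ne, F.cc, F.c_ne, ?_, hzS,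
    ?_, ρx, ρz, ρc, ?_, ⟨_, F.zz⟩, ?_, ?_, ?_⟩
  · intro h1
    rw [F.zz] at h1
    exact F.c_not _ h1
  · intro a ha ha1 haa hac
    rcases (inv_r F hd nf ha haa (hac r (hTS F.r_T)).symm).resolve_left ha1 with h1 | h1 | h1
    · exact h1
    · exact absurd (h1 ▸ hac) hxnc
    · exfalso
      apply hxnc
      intro s hs
      have h2 := hac s hs
      rw [h1] at h2
      have h3 : s * x * r ^ 2 ^ (d - 2) = x * s * r ^ 2 ^ (d - 2) := by
        rw [mul_assoc, h2, mul_assoc, ← hzS s hs, mul_assoc]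
      exact mul_right_cancel h3
  · have e : c * r ^ 2 ^ (d - 3) * c⁻¹ = (r ^ 2 ^ (d - 3))⁻¹ := by
      rw [← zpow_natCast, F.crk, zpow_neg]
    have e1 : r ^ 2 ^ (d - 3) * r ^ 2 ^ (d - 3) = r ^ 2 ^ (d - 2) := by
      rw [← pow_add]
      congr 1
      have : d - 2 = (d - 3) + 1 := by omega
      rw [this, pow_succ, mul_two]
    calc r ^ 2 ^ (d - 3) * c * (r ^ 2 ^ (d - 3))⁻¹ =
        r ^ 2 ^ (d - 3) * (c * (r ^ 2 ^ (d - 3))⁻¹ * c⁻¹) * c := by group
      _ = r ^ 2 ^ (d - 3) * (c * r ^ 2 ^ (d - 3) * c⁻¹)⁻¹ * c := by group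
      _ = r ^ 2 ^ (d - 3) * r ^ 2 ^ (d - 3) * c := by rw [e, inv_inv]
      _ = r ^ 2 ^ (d - 2) * c := by rw [e1]
  · intro t ht
    obtain ⟨l, -, hl⟩ := F.conj_r hd ht
    exact ⟨l, hl⟩
  · intro t ht htt htr
    exact inv_r F hd nf ht htt htr
  · intro g hg
    apply not_central h g
    intro s hs
    have e : g⁻¹ * x * g = r ^ 2 ^ (d - 2) := by rw [← hg]; group
    rw [e]
    exact hzS s hs

/-- elements of `S - T` map `x` to `x z` -/
theorem conj_x [Finite G] (F : Frame x K T D d r c o1 o2) (hd : 3 ≤ d)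
    (nf : ∀ y ∈ T, y * y = 1 → o2 y = 1) {S : Sylow 2 G} {b ρ w : G}
    (h : Dat S T x (r ^ 2 ^ (d - 2)) b ρ w r) {s : G} (hs : s ∈ S) (hsT : s ∉ T) :
    s * x * s⁻¹ = x * r ^ 2 ^ (d - 2) := by
  have h2 : (T.subgroupOf (S : Subgroup G)).Normal := normal_of_index_eq_two h.idx
  have hconj : ∀ t ∈ T, ∀ a ∈ S, a * t * a⁻¹ ∈ T := fun t ht a ha =>
    h2.conj_mem ⟨t, h.le ht⟩ ht ⟨a, ha⟩
  have hsx := hconj x F.x_mem s hs
  have hsq : (s * x * s⁻¹) * (s * x * s⁻¹) = 1 := by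
    calc (s * x * s⁻¹) * (s * x * s⁻¹) = s * (x * x) * s⁻¹ := by group
      _ = 1 := by rw [F.xx]; group
  have hcr : (s * x * s⁻¹) * r = r * (s * x * s⁻¹) := by
    have h3 := hconj r F.r_T s⁻¹ ((S : Subgroup G).inv_mem hs)
    rw [inv_inv] at h3
    have h4 := F.T_comm _ h3
    calc (s * x * s⁻¹) * r = s * (x * (s⁻¹ * r * s)) * s⁻¹ := by group
      _ = s * ((s⁻¹ * r * s) * x) * s⁻¹ := by rw [h4]
      _ = r * (s * x * s⁻¹) := by group
  rcases inv_r F hd nf hsx hsq hcr with h1 | h1 | h1 | h1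
  · exfalso
    apply F.x_ne
    calc x = s⁻¹ * (s * x * s⁻¹) * s := by group
      _ = 1 := by rw [h1]; group
  · exfalso
    apply h.nconj s⁻¹
    rw [← h1]; group
  · exfalso
    apply hsT
    refine mem_T h.toHyp hs ?_
    calc x * s = (s * x * s⁻¹) * s := by rw [h1]
      _ = s * x := by group
  · exact h1

end Cfsg.Agent.GH.NFour.Four
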