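import Cfsg.Agent.SylowSp4.ExtTransfer
import Cfsg.Agent.Involutions.RankThree

/-!
# An involution whose centralizer has no "foreign" normal four-group is almost 2-central

`S` a Sylow 2-subgroup of `G`, `x` an involution of `S`, `T = C_S(x)` a Sylow 2-subgroup of `C(x)`,
`T ≠ S`, `S` contains an elementary abelian group of order 8, `G` has no normal subgroup of index 2.
If every normal four-group of `T` contains `x`, then `|S : T| = 2` (`card_eq`, `relIndex_eq`).

Proof: `S` has a normal four-group `⟨z, u⟩`, `z` central in `S`; `M = C_S(u)`.  By extremal transfer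
(if `x ∉ M`) there is `g` with `g x g⁻¹ ∈ M` and `g T g⁻¹ ≤ S`; `⟨z, u⟩` is a normal four-group of
`g T g⁻¹ = C_S(g x g⁻¹)`, so contains `g x g⁻¹`.
-/

set_option autoImplicit false

open Subgroup

namespace Cfsg.Agent.GH.NFour.Index

variable {G : Type*} [Group G]

/-- `S` contains an elementary abelian group of order 8, so it has a normal four-group `{1, z, u, z u}`. -/
theorem exists_four [Finite G] {S : Subgroup G} (hS : IsPGroup 2 S) (E : Subgroup G) (hES : E ≤ S)
    (hE : Nat.card E = 8) (hE2 : ∀ e ∈ E, e * e = 1) :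
    ∃ z u : G, z ∈ S ∧ u ∈ S ∧ z ≠ 1 ∧ u ≠ 1 ∧ u ≠ z ∧ z * z = 1 ∧ u * u = 1 ∧
      (∀ s ∈ S, s * z = z * s) ∧ ∀ s ∈ S, s * u * s⁻¹ = u ∨ s * u * s⁻¹ = z * u := by
  have hE' : Nat.card (E.subgroupOf S) = 8 := by
    rw [← hE]
    exact Nat.card_congr (Subgroup.subgroupOfEquivOfLe hES).toEquiv
  obtain ⟨U, hUn, hU, hU2⟩ := Cfsg.Agent.Involutions.NormalFour.exists_normal_four hS
    (E.subgroupOf S) hE' (by
      intro e he
      have h1 : (e : G) * e = 1 := hE2 _ he
      rw [pow_two]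
      exact Subtype.ext h1)
  obtain ⟨z, u, hz, hu, hzc, hz1, hu1, huz, -, hconj⟩ :=
    Cfsg.Agent.Involutions.RankThree.four_desc hS U hU hU2
  refine ⟨z, u, z.2, u.2, fun h => hz1 (Subtype.ext h), fun h => hu1 (Subtype.ext h),
    fun h => huz (Subtype.ext h), ?_, ?_, ?_, ?_⟩
  · have := hU2 z hz
    rw [pow_two] at this
    exact congrArg Subtype.val this
  · have := hU2 u hu
    rw [pow_two] at this
    exact congrArg Subtype.val this
  · intro s hs
    exact congrArg Subtype.val ((Subgroup.mem_center_iff.mp hzc) ⟨s, hs⟩)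
  · intro s hs
    rcases hconj ⟨s, hs⟩ with h | h
    · exact Or.inl (congrArg Subtype.val h)
    · exact Or.inr (congrArg Subtype.val h)

/-- The hypotheses of this file. -/
structure Hyp (S : Sylow 2 G) (T : Subgroup G) (x : G) : Prop where
  le : T ≤ S
  ne : T ≠ S
  mem : x ∈ T
  xx : x * x = 1
  x_ne : x ≠ 1
  comm : ∀ t ∈ T, x * t = t * x
  /-- `T` is a Sylow 2-subgroup of `C(x)` -/
  syl : ∀ P : Subgroup G, IsPGroup 2 P → (∀ p ∈ P, x * p = p * x) → Nat.card P ≤ Nat.card T
  /-- every normal four-group of `T` contains `x` -/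
  four : ∀ a ∈ T, ∀ b ∈ T, a * a = 1 → b * b = 1 → a ≠ 1 → b ≠ 1 → b ≠ a →
    (∀ t ∈ T, t * a = a * t) → (∀ t ∈ T, t * b * t⁻¹ = b ∨ t * b * t⁻¹ = a * b) →
    x = a ∨ x = b ∨ x = a * b

variable {S : Sylow 2 G} {T : Subgroup G} {x : G}

/-- a 2-group centralizing `g x g⁻¹` and containing `g T g⁻¹` is `g T g⁻¹` -/
theorem Hyp.mem_of [Finite G] (h : Hyp S T x) {g : G} {P : Subgroup G} (hP : IsPGroup 2 P)
    (hc : ∀ p ∈ P, (g * x * g⁻¹) * p = p * (g * x * g⁻¹)) (hT : ∀ t ∈ T, g * t * g⁻¹ ∈ P)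
    {p : G} (hp : p ∈ P) : g⁻¹ * p * g ∈ T := by
  set Q : Subgroup G := P.map (MulAut.conj g⁻¹).toMonoidHom with hQ
  have hmem : ∀ a, a ∈ Q ↔ g * a * g⁻¹ ∈ P := by
    intro a
    rw [hQ, Subgroup.mem_map_equiv]
    have : (MulAut.conj g⁻¹).symm a = g * a * g⁻¹ := by
      rw [MulAut.conj_symm_apply, inv_inv]
    rw [this]
  have hQ2 : IsPGroup 2 Q := hP.map _
  have h1 : Nat.card Q ≤ Nat.card T := by
    refine h.syl Q hQ2 ?_
    intro a ha
    have h2 := hc _ ((hmem a).1 ha)
    calc x * a = g⁻¹ * ((g * x * g⁻¹) * (g * a * g⁻¹)) * g := by group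
      _ = g⁻¹ * ((g * a * g⁻¹) * (g * x * g⁻¹)) * g := by rw [h2]
      _ = a * x := by group
  have h2 : T ≤ Q := fun t ht => (hmem t).2 (hT t ht)
  have h3 : T = Q := Subgroup.eq_of_le_of_card_ge h2 h1
  rw [h3, hmem]
  have : g * (g⁻¹ * p * g) * g⁻¹ = p := by group
  rwa [this]

/-- the key step -/
theorem Hyp.relIndex_of [Finite G] (h : Hyp S T x) {z u : G} (hz : z ∈ S) (hu : u ∈ S)
    (hz1 : z ≠ 1) (hu1 : u ≠ 1) (huz : u ≠ z) (hzz : z * z = 1) (huu : u * u = 1)
    (hzc : ∀ s ∈ S, s * z = z * s) (hconj : ∀ s ∈ S, s * u * s⁻¹ = u ∨ s * u * s⁻¹ = z * u)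
    {g : G} (hgT : ∀ t ∈ T, g * t * g⁻¹ ∈ S) (hgu : (g * x * g⁻¹) * u = u * (g * x * g⁻¹)) :
    T.relIndex (S : Subgroup G) = 2 := by
  set y := g * x * g⁻¹ with hy
  have hyS : y ∈ S := hgT x h.mem
  -- `P = C_S(y)`
  set P : Subgroup G := (S : Subgroup G) ⊓ centralizer {y} with hP
  have hP2 : IsPGroup 2 P := S.2.to_le inf_le_left
  have hPc : ∀ p ∈ P, y * p = p * y := fun p hp => (mem_centralizer_singleton_iff.1 hp.2).symm
  have hTP : ∀ t ∈ T, g * t * g⁻¹ ∈ P := by
    intro t ht
    refine ⟨hgT t ht, mem_centralizer_singleton_iff.2 ?_⟩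
    calc g * t * g⁻¹ * y = g * (t * x) * g⁻¹ := by rw [hy]; group
      _ = g * (x * t) * g⁻¹ := by rw [h.comm t ht]
      _ = y * (g * t * g⁻¹) := by rw [hy]; group
  have hmem : ∀ p ∈ P, g⁻¹ * p * g ∈ T := fun p hp => h.mem_of hP2 hPc hTP hp
  have hzP : z ∈ P := ⟨hz, mem_centralizer_singleton_iff.2 (hzc y hyS).symm⟩
  have huP : u ∈ P := ⟨hu, mem_centralizer_singleton_iff.2 hgu.symm⟩
  have hne1 : ∀ a : G, a ≠ 1 → g⁻¹ * a * g ≠ 1 := by
    intro a ha h1
    apply ha
    have : a = g * (g⁻¹ * a * g) * g⁻¹ := by group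
    rw [this, h1]; group
  have hcj : ∀ a b : G, (g⁻¹ * a * g) * (g⁻¹ * b * g) = g⁻¹ * (a * b) * g := by
    intro a b; group
  have hcard : Nat.card T = Nat.card P := by
    have e : P.map (MulAut.conj g⁻¹).toMonoidHom = T := by
      apply le_antisymm
      · rintro _ ⟨p, hp, rfl⟩
        have := hmem p hp
        simpa [MulAut.conj_apply] using this
      · intro t ht
        rw [Subgroup.mem_map_equiv, MulAut.conj_symm_apply, inv_inv]
        exact hTP t ht
    rw [← e]
    exact Nat.card_congr (P.equivMapOfInjective _ (MulAut.conj g⁻¹).injective).toEquiv.symm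
  have hlt : Nat.card T < Nat.card S := by
    rcases Nat.lt_or_ge (Nat.card T) (Nat.card S) with h1 | h1
    · exact h1
    · exact absurd (Subgroup.eq_of_le_of_card_ge h.le h1) h.ne
  have hnc : ¬ ∀ s ∈ S, s * y = y * s := by
    intro h1
    have h2 : P = S := by
      apply le_antisymm inf_le_left
      intro s hs
      exact ⟨hs, mem_centralizer_singleton_iff.2 (h1 s hs)⟩
    rw [hcard, h2] at hlt
    exact lt_irrefl _ hlt
  -- `⟨z, u⟩` is a normal four-group of `C_S(y) = g T g⁻¹`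
  have key : y = z ∨ y = u ∨ y = z * u := by
    have h1 := h.four (g⁻¹ * z * g) (hmem z hzP) (g⁻¹ * u * g) (hmem u huP)
      (by rw [hcj, hzz]; group) (by rw [hcj, huu]; group) (hne1 z hz1) (hne1 u hu1)
      (by
        intro h2
        apply huz
        have : u = g * (g⁻¹ * u * g) * g⁻¹ := by group
        rw [this, h2]; group)
      (by
        intro t ht
        have h2 := hzc _ (hgT t ht)
        calc t * (g⁻¹ * z * g) = g⁻¹ * ((g * t * g⁻¹) * z) * g := by group
          _ = g⁻¹ * (z * (g * t * g⁻¹)) * g := by rw [h2]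
          _ = g⁻¹ * z * g * t := by group)
      (by
        intro t ht
        have e1 : t * (g⁻¹ * u * g) * t⁻¹ =
            g⁻¹ * ((g * t * g⁻¹) * u * (g * t * g⁻¹)⁻¹) * g := by group
        rcases hconj _ (hgT t ht) with h2 | h2
        · left; rw [e1, h2]
        · right; rw [e1, h2]; group)
    have e2 : y = g * x * g⁻¹ := rfl
    rcases h1 with h1 | h1 | h1
    · left; rw [e2, h1]; group
    · right; left; rw [e2, h1]; group
    · right; right; rw [e2, h1]; group
  -- `C_S(y) = C_S(u)`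
  have hyu : ∀ s ∈ S, s * y = y * s → s * u = u * s := by
    intro s hs hsy
    rcases key with h1 | h1 | h1
    · exact absurd (fun s hs => by rw [h1]; exact hzc s hs) hnc
    · rw [h1] at hsy; exact hsy
    · rw [h1] at hsy
      have h2 : s * z * u = z * u * s := by rw [mul_assoc]; exact hsy
      rw [hzc s hs, mul_assoc, mul_assoc] at h2
      exact mul_left_cancel h2
  have huy : ∀ s ∈ S, s * u = u * s → s * y = y * s := by
    intro s hs hsu
    rcases key with h1 | h1 | h1
    · rw [h1]; exact hzc s hs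
    · rw [h1]; exact hsu
    · rw [h1, ← mul_assoc, hzc s hs, mul_assoc, hsu, mul_assoc]
  -- the index of `P`
  have hidx : P.relIndex (S : Subgroup G) = 2 := by
    rw [Subgroup.relIndex_eq_two_iff]
    push Not at hnc
    obtain ⟨a, ha, hay⟩ := hnc
    refine ⟨a, ha, ?_⟩
    have hnot : ∀ s ∈ S, s ∉ P → s * u * s⁻¹ = z * u := by
      intro s hs hsP
      rcases hconj s hs with h1 | h1
      · exfalso
        apply hsP
        refine ⟨hs, mem_centralizer_singleton_iff.2 (huy s hs ?_)⟩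
        calc s * u = s * u * s⁻¹ * s := by group
          _ = u * s := by rw [h1]
      · exact h1
    have haP : a ∉ P := fun h1 => hay (hPc a h1).symm
    intro b hb
    by_cases hbP : b ∈ P
    · refine Or.inr ⟨hbP, fun h1 => haP ?_⟩
      have := P.mul_mem (P.inv_mem hbP) h1
      rwa [← mul_assoc, inv_mul_cancel, one_mul] at this
    · refine Or.inl ⟨?_, hbP⟩
      refine ⟨(S : Subgroup G).mul_mem hb ha, mem_centralizer_singleton_iff.2 (huy _ ((S : Subgroup G).mul_mem hb ha) ?_)⟩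
      have h1 : (b * a) * u * (b * a)⁻¹ = u := by
        calc (b * a) * u * (b * a)⁻¹ = b * (a * u * a⁻¹) * b⁻¹ := by group
          _ = b * (z * u) * b⁻¹ := by rw [hnot a ha haP]
          _ = (b * z) * u * b⁻¹ := by group
          _ = z * (b * u * b⁻¹) := by rw [hzc b hb]; group
          _ = (z * z) * u := by rw [hnot b hb hbP]; group
          _ = u := by rw [hzz, one_mul]
      calc (b * a) * u = ((b * a) * u * (b * a)⁻¹) * (b * a) := by group
        _ = u * (b * a) := by rw [h1]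
  -- conclusion
  have h1 := Subgroup.relIndex_mul_relIndex ⊥ P (S : Subgroup G) bot_le inf_le_left
  have h2 := Subgroup.relIndex_mul_relIndex ⊥ T (S : Subgroup G) bot_le h.le
  rw [relIndex_bot_left, relIndex_bot_left, hidx] at h1
  rw [relIndex_bot_left, relIndex_bot_left, ← h1, hcard] at h2
  exact Nat.eq_of_mul_eq_mul_left (Nat.card_pos) h2

/-- **`|S : T| = 2`.** -/
theorem Hyp.relIndex_eq [Finite G] (h : Hyp S T x) (hG : ∀ f : G →* ℤˣ, f x = 1) (E : Subgroup G)
    (hES : E ≤ S) (hE : Nat.card E = 8) (hE2 : ∀ e ∈ E, e * e = 1) :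
    T.relIndex (S : Subgroup G) = 2 := by
  obtain ⟨z, u, hz, hu, hz1, hu1, huz, hzz, huu, hzc, hconj⟩ := exists_four S.2 E hES hE hE2
  by_cases hx : x * u = u * x
  · refine h.relIndex_of hz hu hz1 hu1 huz hzz huu hzc hconj (g := 1) ?_ ?_
    · intro t ht; rw [one_mul, inv_one, mul_one]; exact h.le ht
    · rw [one_mul, inv_one, mul_one]; exact hx
  · -- `M = C_S(u)`
    set M : Subgroup G := (S : Subgroup G) ⊓ centralizer {u} with hM
    have hnot : ∀ s ∈ S, s ∉ M → s * u * s⁻¹ = z * u := by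
      intro s hs hsM
      rcases hconj s hs with h1 | h1
      · exfalso
        apply hsM
        refine ⟨hs, mem_centralizer_singleton_iff.2 ?_⟩
        calc s * u = s * u * s⁻¹ * s := by group
          _ = u * s := by rw [h1]
      · exact h1
    have hxM : x ∉ M := fun h1 => hx (mem_centralizer_singleton_iff.1 h1.2)
    have hidx : M.relIndex (S : Subgroup G) = 2 := by
      rw [Subgroup.relIndex_eq_two_iff]
      refine ⟨x, h.le h.mem, ?_⟩
      intro b hb
      by_cases hbM : b ∈ M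
      · refine Or.inr ⟨hbM, fun h1 => hxM ?_⟩
        have := M.mul_mem (M.inv_mem hbM) h1
        rwa [← mul_assoc, inv_mul_cancel, one_mul] at this
      · refine Or.inl ⟨⟨(S : Subgroup G).mul_mem hb (h.le h.mem), mem_centralizer_singleton_iff.2 ?_⟩, hbM⟩
        have h1 : (b * x) * u * (b * x)⁻¹ = u := by
          calc (b * x) * u * (b * x)⁻¹ = b * (x * u * x⁻¹) * b⁻¹ := by group
            _ = b * (z * u) * b⁻¹ := by rw [hnot x (h.le h.mem) hxM]
            _ = (b * z) * u * b⁻¹ := by group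
            _ = z * (b * u * b⁻¹) := by rw [hzc b hb]; group
            _ = (z * z) * u := by rw [hnot b hb hbM]; group
            _ = u := by rw [hzz, one_mul]
        calc (b * x) * u = ((b * x) * u * (b * x)⁻¹) * (b * x) := by group
          _ = u * (b * x) := by rw [h1]
    obtain ⟨g, hgM, hgT⟩ := Cfsg.Agent.SylowSp4.ExtTransfer.exists_extremal S M inf_le_left hidx x h.xx
      hG T (S.2.to_le h.le) (fun t ht => (h.comm t ht).symm)
    exact h.relIndex_of hz hu hz1 hu1 huz hzz huu hzc hconj hgT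
      (mem_centralizer_singleton_iff.1 hgM.2)

end Cfsg.Agent.GH.NFour.Index
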